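import Mathlib.RingTheory.Nakayama
import Mathlib.RingTheory.Flat.Stability
import Mathlib.RingTheory.Flat.Tensor
import Mathlib.RingTheory.Localization.Integer
import Mathlib.RingTheory.LocalRing.ResidueField.Fiber
import Mathlib.RingTheory.IsTensorProduct
import Mathlib.LinearAlgebra.Basis.VectorSpace

/-!
Coefficients of elements of a projective algebra, and their behaviour in fibres which are domains.
-/

set_option autoImplicit false
universe u

open TensorProduct

namespace Groth.Agent.H25.BlowFree.Content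

variable {R S : Type u} [CommRing R] [CommRing S] [Algebra R S]
  (s : S →ₗ[R] (S →₀ R)) (hs : ∀ z : S, Finsupp.linearCombination R id (s z) = z)

include hs in
theorem sum_eq (z : S) : ∑ y ∈ (s z).support, s z y • y = z := by
  conv_rhs => rw [← hs z]
  rw [Finsupp.linearCombination_apply, Finsupp.sum]
  rfl

/-- The ideal of coefficients of the elements of `Z`. -/
def content (Z : Set S) : Ideal R := Ideal.span (⋃ z ∈ Z, Set.range fun y => s z y)

theorem mem_content {Z : Set S} {z : S} (hz : z ∈ Z) (y : S) : s z y ∈ content s Z :=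
  Ideal.subset_span (Set.mem_biUnion hz ⟨y, rfl⟩)

theorem content_fg {Z : Set S} (hZ : Z.Finite) : (content s Z).FG := by
  classical
  refine ⟨hZ.toFinset.biUnion fun z => (s z).support.image fun y => s z y, le_antisymm ?_ ?_⟩
  · refine Ideal.span_le.2 fun c hc => ?_
    obtain ⟨z, hz, hc⟩ := Finset.mem_biUnion.1 hc
    obtain ⟨y, -, rfl⟩ := Finset.mem_image.1 hc
    exact mem_content s (hZ.mem_toFinset.1 hz) y
  · refine Ideal.span_le.2 ?_
    rintro c hc
    obtain ⟨z, hz, y, rfl⟩ := Set.mem_iUnion₂.1 hc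
    by_cases h : s z y = 0
    · simp [h]
    · exact Ideal.subset_span (Finset.mem_biUnion.2 ⟨z, hZ.mem_toFinset.2 hz,
        Finset.mem_image.2 ⟨y, Finsupp.mem_support_iff.2 h, rfl⟩⟩)

include hs in
theorem mem_map_content {Z : Set S} {z : S} (hz : z ∈ Z) :
    z ∈ (content s Z).map (algebraMap R S) := by
  rw [← sum_eq s hs z]
  refine sum_mem fun y _ => ?_
  rw [Algebra.smul_def]
  exact Ideal.mul_mem_right _ _ (Ideal.mem_map_of_mem _ (mem_content s hz y))

include hs in
theorem not_content_le {Z : Set S} {p : Ideal R} {z : S} (hz : z ∈ Z)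
    (hzp : z ∉ p.map (algebraMap R S)) : ¬ content s Z ≤ p := fun h =>
  hzp (Ideal.map_mono h (mem_map_content s hs hz))

/-- A family killed modulo `p` up to units is killed up to units. -/
theorem exists_kill_of_le_smul (p : Ideal R) [p.IsPrime] {ι : Type*} (K : Finset ι) (c : ι → R)
    (h : ∀ i ∈ K, ∃ t ∉ p, t * c i ∈ p * Ideal.span (c '' K)) :
    ∀ i ∈ K, ∃ t ∉ p, t * c i = 0 := by
  classical
  let L := Localization.AtPrime p
  let C : Ideal R := Ideal.span (c '' K)
  have hfg : (C.map (algebraMap R L)).FG := Ideal.FG.map ⟨(K.image c : Finset R) , by simp [C]⟩ _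
  have hle : C.map (algebraMap R L) ≤
      IsLocalRing.maximalIdeal L • C.map (algebraMap R L) := by
    rw [smul_eq_mul, Ideal.map_span, Ideal.span_le]
    rintro _ ⟨_, ⟨i, hi, rfl⟩, rfl⟩
    obtain ⟨t, ht, htc⟩ := h i hi
    have hm := Ideal.mem_map_of_mem (algebraMap R L) htc
    rw [Ideal.map_mul, IsLocalization.AtPrime.map_eq_maximalIdeal p L, map_mul] at hm
    have hu : IsUnit (algebraMap R L t) := IsLocalization.map_units L (⟨t, ht⟩ : p.primeCompl)
    rw [← Ideal.map_span]
    exact (Ideal.unit_mul_mem_iff_mem _ hu).1 hm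
  have h0 := Submodule.eq_bot_of_le_smul_of_le_jacobson_bot _ _ hfg hle
    (IsLocalRing.maximalIdeal_le_jacobson _)
  intro i hi
  have : algebraMap R L (c i) = 0 := by
    rw [← Ideal.mem_bot, ← h0]
    exact Ideal.mem_map_of_mem _ (Ideal.subset_span ⟨i, hi, rfl⟩)
  obtain ⟨⟨t, ht⟩, h⟩ := (IsLocalization.map_eq_zero_iff p.primeCompl L _).1 this
  exact ⟨t, ht, h⟩

include hs in
/-- In a projective algebra with domain fibre at `p`, an element killed by one which is nonzero in
the fibre vanishes near `p`. -/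
theorem exists_smul_eq_zero (p : Ideal R) [p.IsPrime] [IsDomain (p.Fiber S)] {σ : S}
    (hσ : (1 : p.ResidueField) ⊗ₜ[R] σ ≠ (0 : p.Fiber S)) {d : S} (hd : σ * d = 0) :
    ∃ t ∉ p, t • d = 0 := by
  classical
  let κ := p.ResidueField
  let K := (s d).support
  let c := s d
  suffices h : ∀ y ∈ K, ∃ t ∉ p, t * c y ∈ p * Ideal.span (c '' K) by
    choose! t htp ht using exists_kill_of_le_smul p K c h
    refine ⟨∏ y ∈ K, t y, fun hm => ?_, ?_⟩
    · obtain ⟨y, hy, hyp⟩ := (‹p.IsPrime›.prod_mem_iff).1 hm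
      exact htp y hy hyp
    · rw [← sum_eq s hs d, Finset.smul_sum]
      refine Finset.sum_eq_zero fun y hy => ?_
      rw [smul_smul, ← Finset.prod_erase_mul _ _ hy, mul_assoc, ht y hy, mul_zero, zero_smul]
  intro l _
  let mulσ : p.Fiber S →ₗ[κ] p.Fiber S := LinearMap.mulLeft κ ((1 : κ) ⊗ₜ[R] σ)
  obtain ⟨G, hG⟩ := mulσ.exists_leftInverse_of_injective
    (LinearMap.ker_eq_bot.2 fun a b hab => mul_left_cancel₀ hσ hab)
  let φκ : p.Fiber S →ₗ[κ] κ :=
    AlgebraTensorModule.lift ((LinearMap.toSpanSingleton κ (S →ₗ[R] κ)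
      ((Algebra.linearMap R κ) ∘ₗ (Finsupp.lapply l ∘ₗ s))))
  have hφκ : ∀ z : S, φκ ((1 : κ) ⊗ₜ[R] z) = algebraMap R κ (s z l) := fun z => by
    show ((1 : κ) • ((Algebra.linearMap R κ) ∘ₗ (Finsupp.lapply l ∘ₗ s))) z = _
    rw [one_smul]
    rfl
  let ψ : p.Fiber S →ₗ[κ] κ := φκ ∘ₗ G
  have hψ : ∀ z : S, ψ ((1 : κ) ⊗ₜ[R] (σ * z)) = algebraMap R κ (s z l) := fun z => by
    have h1 : mulσ ((1 : κ) ⊗ₜ[R] z) = (1 : κ) ⊗ₜ[R] (σ * z) := by
      simp [mulσ, LinearMap.mulLeft_apply]
    rw [← h1, LinearMap.comp_apply, ← LinearMap.comp_apply G, hG, LinearMap.id_apply, hφκ]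
  let N := K.biUnion fun y => (s (σ * y)).support
  obtain ⟨⟨t, ht⟩, hint⟩ := IsLocalization.exist_integer_multiples (nonZeroDivisors (R ⧸ p)) N
    (fun m => ψ ((1 : κ) ⊗ₜ[R] m))
  obtain ⟨t, rfl⟩ := Ideal.Quotient.mk_surjective t
  have htp : t ∉ p := fun h =>
    nonZeroDivisors.ne_zero ht (Ideal.Quotient.eq_zero_iff_mem.2 h)
  have hβ : ∀ m ∈ N, ∃ β : R, algebraMap R κ β = algebraMap R κ t * ψ ((1 : κ) ⊗ₜ[R] m) := by
    intro m hm
    obtain ⟨b, hb⟩ := hint m hm
    obtain ⟨b, rfl⟩ := Ideal.Quotient.mk_surjective b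
    refine ⟨b, ?_⟩
    simpa [Algebra.smul_def, IsScalarTower.algebraMap_apply R (R ⧸ p) κ] using hb
  choose! β hβ using hβ
  let Φ : S →ₗ[R] R := ∑ m ∈ N, β m • (Finsupp.lapply m ∘ₗ s)
  have hΦ : ∀ y ∈ K, algebraMap R κ (Φ (σ * y)) = algebraMap R κ (t * s y l) := by
    intro y hy
    rw [map_mul (algebraMap R κ) t, ← hψ y]
    conv_rhs => rw [← sum_eq s hs (σ * y)]
    rw [tmul_sum, map_sum, Finset.mul_sum]
    simp only [Φ, LinearMap.sum_apply, map_sum, LinearMap.smul_apply, LinearMap.comp_apply,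
      Finsupp.lapply_apply, smul_eq_mul, map_mul]
    rw [Finset.sum_subset (Finset.subset_biUnion_of_mem (fun y => (s (σ * y)).support) hy)]
    · refine Finset.sum_congr rfl fun m hm => ?_
      rw [tmul_smul, algebra_compatible_smul κ (s (σ * y) m), map_smul, smul_eq_mul, hβ m hm]
      ring
    · intro m _ hm
      rw [Finsupp.notMem_support_iff.1 hm, zero_smul, tmul_zero, map_zero, mul_zero]
  refine ⟨t, htp, ?_⟩
  have h1 : t * c l = ∑ y ∈ K, c y * (t * s y l - Φ (σ * y)) := by
    have e1 : c l = ∑ y ∈ K, c y * s y l := by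
      show (Finsupp.lapply l ∘ₗ s) d = _
      conv_lhs => rw [← sum_eq s hs d]
      simp [K, c]
    have e2 : ∑ y ∈ K, c y * Φ (σ * y) = 0 := by
      have : σ * d = ∑ y ∈ K, c y • (σ * y) := by
        conv_lhs => rw [← sum_eq s hs d]
        simp [K, c, Finset.mul_sum]
      rw [hd] at this
      have := congrArg Φ this.symm
      simpa using this
    simp only [mul_sub, Finset.sum_sub_distrib, e2, sub_zero, e1, Finset.mul_sum]
    exact Finset.sum_congr rfl fun y _ => by ring
  rw [h1]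
  refine sum_mem fun y hy => ?_
  rw [mul_comm (c y)]
  refine Ideal.mul_mem_mul ?_ (Ideal.subset_span (Set.mem_image_of_mem (⇑c) (Finset.mem_coe.2 hy)))
  rw [← Ideal.algebraMap_residueField_eq_zero, map_sub, hΦ y hy, sub_self]

variable {R' S' : Type u} [CommRing R'] [CommRing S'] [Algebra R R'] [Algebra R' S'] [Algebra R S']
  [Algebra S S'] [IsScalarTower R R' S'] [IsScalarTower R S S']

/-- If the content of `Z` becomes principal, the images of `Z` are multiples of its generator, with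
some cofactor outside the extension of a given prime. -/
theorem exists_cofactor (hb : IsBaseChange R' (IsScalarTower.toAlgHom R S S').toLinearMap)
    (hs : ∀ z : S, Finsupp.linearCombination R id (s z) = z) {Z : Set S} {j : R}
    (hj : (content s Z).map (algebraMap R R') = Ideal.span {algebraMap R R' j})
    (hnzd : algebraMap R R' j ∈ nonZeroDivisors R') (p' : Ideal R') [p'.IsPrime] :
    (∀ z ∈ Z, algebraMap R S' j ∣ algebraMap S S' z) ∧
      ∃ z ∈ Z, ∃ w ∉ p'.map (algebraMap R' S'), algebraMap S S' z = algebraMap R S' j * w := by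
  have hdvd : ∀ z ∈ Z, algebraMap R S' j ∣ algebraMap S S' z := by
    intro z hz
    rw [← Ideal.mem_span_singleton, IsScalarTower.algebraMap_apply R R' S', ← Set.image_singleton,
      ← Ideal.map_span, ← hj, Ideal.map_map, ← IsScalarTower.algebraMap_eq,
      IsScalarTower.algebraMap_eq R S S', ← Ideal.map_map]
    exact Ideal.mem_map_of_mem _ (mem_map_content s hs hz)
  refine ⟨hdvd, ?_⟩
  by_contra hall
  push Not at hall
  have hle : (content s Z).map (algebraMap R R') ≤ Ideal.span {algebraMap R R' j} * p' := by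
    rw [content, Ideal.map_span, Ideal.span_le]
    rintro _ ⟨c, hc, rfl⟩
    obtain ⟨z, hz, y, rfl⟩ := Set.mem_iUnion₂.1 hc
    obtain ⟨w, hw⟩ := hdvd z hz
    let φ : S' →ₗ[R'] R' := hb.lift ((Algebra.linearMap R R') ∘ₗ (Finsupp.lapply y ∘ₗ s))
    have hφ : φ (algebraMap S S' z) = algebraMap R R' (s z y) := by
      show φ ((IsScalarTower.toAlgHom R S S').toLinearMap z) = _
      rw [hb.lift_eq]; rfl
    have hwp : φ w ∈ p' := by
      have hw' : w ∈ p' • (⊤ : Submodule R' S') := by
        rw [Ideal.smul_top_eq_map]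
        exact not_not.1 fun h => hall z hz w h hw
      refine Submodule.smul_induction_on hw' (fun r hr x _ => ?_) fun a b ha hb => ?_
      · rw [map_smul]; exact p'.mul_mem_right _ hr
      · rw [map_add]; exact add_mem ha hb
    rw [SetLike.mem_coe, Ideal.mem_span_singleton_mul]
    refine ⟨φ w, hwp, ?_⟩
    rw [← hφ, hw, IsScalarTower.algebraMap_apply R R' S' j, ← Algebra.smul_def (algebraMap R R' j) w, map_smul, smul_eq_mul]
  obtain ⟨q, hq, hq'⟩ := Ideal.mem_span_singleton_mul.1
    (hle (hj.ge (Ideal.mem_span_singleton_self _)))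
  have h1 : algebraMap R R' j * (q - 1) = 0 := by rw [mul_sub, hq', mul_one, sub_self]
  refine ‹p'.IsPrime›.ne_top ((Ideal.eq_top_iff_one _).2 ?_)
  rwa [← sub_eq_zero.1 ((mul_left_mem_nonZeroDivisors_eq_zero_iff hnzd).1 h1)]

end Groth.Agent.H25.BlowFree.Content
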