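import Groth.Agent.H25.BlowFree.Main
import Groth.Agent.Lib.Ideal.EffCartier

/-!
Making a module free near the generic points of the fibres by blowing up: several ranks at once and
an arbitrary algebra over which the centre becomes invertible.
-/

set_option autoImplicit false
set_option linter.style.haveILetI false
universe u

open TensorProduct

namespace Groth.Agent.H25.BlowFree.General

open Groth.Agent.H25.Fitting Content Main

variable {R S : Type u} [CommRing R] [CommRing S] [Algebra R S]
  [Algebra.FinitePresentation R S] [Module.Flat R S]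

/-- In a product of ideals which is invertible, some product of generators generates near a prime. -/
theorem exists_factor {A : Type*} [CommRing A] {gens : Set A} {B : Ideal A} {ε : A}
    (h : Ideal.span gens * B = Ideal.span {ε}) (hε : ε ∈ nonZeroDivisors A) (p : Ideal A) [p.IsPrime] :
    ∃ a ∈ gens, ∃ b ∈ B, ∃ c ∉ p, a * b = c * ε := by
  by_contra hall
  push Not at hall
  have hle : Ideal.span gens * B ≤ Ideal.span {ε} * p := by
    rw [← Ideal.span_eq B, Ideal.span_mul_span', Ideal.span_le]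
    rintro _ ⟨a, ha, b, hb, rfl⟩
    obtain ⟨c, hc⟩ := Ideal.mem_span_singleton.1
      (h.le (Ideal.mul_mem_mul (Ideal.subset_span ha) hb))
    refine Ideal.mem_span_singleton_mul.2 ⟨c, ?_, hc.symm⟩
    exact by_contra fun hcp => hall a ha b hb c hcp (by rw [hc, mul_comm])
  obtain ⟨q, hq, hq'⟩ := Ideal.mem_span_singleton_mul.1 (hle (h.ge (Ideal.mem_span_singleton_self ε)))
  have h1 : ε * (q - 1) = 0 := by rw [mul_sub, hq', mul_one, sub_self]
  refine ‹p.IsPrime›.ne_top ((Ideal.eq_top_iff_one _).2 ?_)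
  rwa [← sub_eq_zero.1 ((mul_left_mem_nonZeroDivisors_eq_zero_iff hε).1 h1)]

omit [Algebra.FinitePresentation R S] in
theorem generic_facts (hgi : _root_.FlatCA.GeomIntegralFibres R S)
    (s : S →ₗ[R] (S →₀ R)) (hs : ∀ z : S, Finsupp.linearCombination R id (s z) = z)
    (f : R) (r : ℕ) {M : Type u} [AddCommGroup M] [Module S M] [Module.Finite S M]
    {n : ℕ} (x : Fin n → M) (hx : Submodule.span S (Set.range x) = ⊤)
    {Z : Set (Fin n → S)} (hZs : Z ⊆ (rel (R := S) x : Set (Fin n → S)))
    (hZpow : ∀ v ∈ rel (R := S) x, ∃ N : ℕ, algebraMap R S f ^ N • v ∈ Submodule.span S Z)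
    {G : Finset S} (hG : Submodule.span S (G : Set S) = Mn Z (n - r))
    (hfree : ∀ (p : Ideal R) [p.IsPrime] [(p.map (algebraMap R S)).IsPrime], f ∉ p →
      Module.Free (Localization.AtPrime (p.map (algebraMap R S)))
        (LocalizedModule (p.map (algebraMap R S)).primeCompl M) ∧
      Module.rank (Localization.AtPrime (p.map (algebraMap R S)))
        (LocalizedModule (p.map (algebraMap R S)).primeCompl M) = r) :
    f ∈ (content s (G : Set S)).radical ∧
      ∀ i, i + 1 = r → ∀ d ∈ Mn Z (n - i), ∃ N : ℕ, f ^ N • d = 0 := by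
  classical
  haveI hdom : ∀ (p : Ideal R) [p.IsPrime], IsDomain (p.Fiber S) := fun p _ =>
    Lib.RG.Fibres.isDomain_of_geomIntegral hgi p.ResidueField
  set fS := algebraMap R S f with hfS
  let C : Ideal R := content s (G : Set S)
  -- the Fitting ideal is not contained in the generic points over `D(f)`
  have hgen : ∀ (p : Ideal R) [p.IsPrime], f ∉ p →
      ¬ Mn Z (n - r) ≤ p.map (algebraMap R S) ∧
        ∀ i, i < r → ∀ d ∈ Mn Z (n - i), ∃ t ∉ p, t • d = 0 := by
    intro p _ hfp
    haveI := H69.Shrink.isPrime_map_of_isDomain_fiber (B := S) p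
    obtain ⟨hF, hR⟩ := hfree p hfp
    haveI := hF
    haveI : Module.Finite (Localization.AtPrime (p.map (algebraMap R S)))
        (LocalizedModule (p.map (algebraMap R S)).primeCompl M) :=
      Module.Finite.of_isLocalizedModule (p.map (algebraMap R S)).primeCompl
        (LocalizedModule.mkLinearMap (p.map (algebraMap R S)).primeCompl M)
    have hfr := Module.finrank_eq_of_rank_eq hR
    refine ⟨fun hle => ?_, fun i hi d hd => ?_⟩
    · obtain ⟨σ, hσ, hσF⟩ := exists_mem_ideal_of_span_localized (p.map (algebraMap R S)).primeCompl _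
        (Module.finBasisOfFinrankEq _ _ hfr).span_eq
      obtain ⟨N, hN⟩ := exists_pow_mul_mem_Mn fS hZpow ((ideal_eq x hx r).le hσF)
      exact ((Ideal.IsPrime.mem_or_mem inferInstance (hle hN)).elim
        (fun h => not_mem_map hfp (Ideal.IsPrime.mem_of_pow_mem inferInstance N h)) hσ)
    · obtain ⟨σ, hσ, hσd⟩ := exists_mul_eq_zero_of_free (M := M) (p.map (algebraMap R S)).primeCompl
        (k := i) (by rw [hfr]; exact hi) ((ideal_eq x hx i).ge (Mn_mono hZs _ hd))
      exact exists_smul_eq_zero s hs p (fiber_ne_zero hσ) hσd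
  have hfC : f ∈ C.radical := by
    rw [Ideal.radical_eq_sInf, Submodule.mem_sInf]
    rintro (p : Ideal R) ⟨hle, hp⟩
    by_contra hfp
    have hnot := (hgen p hfp).1
    rw [← hG] at hnot
    obtain ⟨z, hz, hzp⟩ := Set.not_subset.1 (mt Submodule.span_le.2 hnot)
    exact not_content_le s hs hz hzp hle
  have hkill : ∀ i, i + 1 = r → ∀ d ∈ Mn Z (n - i), ∃ N : ℕ, f ^ N • d = 0 := by
    intro i hi d hd
    let A : Ideal R := LinearMap.ker (LinearMap.toSpanSingleton R S d)
    have : f ∈ A.radical := by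
      rw [Ideal.radical_eq_sInf, Submodule.mem_sInf]
      rintro (p : Ideal R) ⟨hle, hp⟩
      by_contra hfp
      obtain ⟨t, ht, htd⟩ := (hgen p hfp).2 i (by omega) d hd
      exact ht (hle (show t ∈ A by simpa [A] using htd))
    obtain ⟨N, hN⟩ := this
    exact ⟨N, by simpa [A] using hN⟩
  exact ⟨hfC, hkill⟩

omit [Algebra.FinitePresentation R S] in
theorem approx_free (hgi : _root_.FlatCA.GeomIntegralFibres R S)
    (s : S →ₗ[R] (S →₀ R)) (hs : ∀ z : S, Finsupp.linearCombination R id (s z) = z)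
    (f j : R) (r : ℕ) {M : Type u} [AddCommGroup M] [Module S M] [Module.Finite S M]
    {n : ℕ} (x : Fin n → M) (hx : Submodule.span S (Set.range x) = ⊤)
    {Z : Set (Fin n → S)} (hZs : Z ⊆ (rel (R := S) x : Set (Fin n → S)))
    (hZpow : ∀ v ∈ rel (R := S) x, ∃ N : ℕ, algebraMap R S f ^ N • v ∈ Submodule.span S Z)
    {G : Finset S} (hG : Submodule.span S (G : Set S) = Mn Z (n - r))
    (hkill : ∀ i, i + 1 = r → ∀ d ∈ Mn Z (n - i), ∃ N : ℕ, f ^ N • d = 0)
    {R' : Type u} [CommRing R'] [Algebra R R'] (b₀ : R') (hb : b₀ ∈ nonZeroDivisors R')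
    (hdiv : algebraMap R R' f * algebraMap R R' j ∣ b₀)
    (hCj : (content s (G : Set S)).map (algebraMap R R') = Ideal.span {algebraMap R R' j})
    {S' M' : Type u} [CommRing S'] [Algebra S S'] [Algebra R' S'] [Algebra R S']
    [IsScalarTower R S S'] [IsScalarTower R R' S'] [Algebra.IsPushout R S R' S']
    [AddCommGroup M'] [Module S' M'] [Module S M'] [IsScalarTower S S' M']
    (φ : M →ₗ[S] M') (hφ : IsBaseChange S' φ) (p' : Ideal R') [p'.IsPrime] :
    ∃ h ∉ p'.map (algebraMap R' S'),
      ∃ u : Fin r → M' ⧸ _root_.FlatCA.powTorsion S' (algebraMap R' S' b₀) M',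
        (∀ y, h • y ∈ Submodule.span S' (Set.range u)) ∧
          ∀ α : Fin r → S', ∑ i, α i • u i = 0 → ∀ i, h * α i = 0 := by
  classical
  set fS := algebraMap R S f with hfS
  obtain ⟨w₀, hw₀⟩ := hdiv
  have hnzd : algebraMap R R' f ∈ nonZeroDivisors R' ∧ algebraMap R R' j ∈ nonZeroDivisors R' := by
    rw [← mul_mem_nonZeroDivisors]
    exact (mul_mem_nonZeroDivisors.1 (hw₀ ▸ hb)).1
  have hpush' : Algebra.IsPushout R R' S S' := ‹Algebra.IsPushout R S R' S'›.symm
  have hbc : IsBaseChange R' (IsScalarTower.toAlgHom R S S').toLinearMap := hpush'.out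
  haveI : Module.Flat R' S' := Module.Flat.isBaseChange R R' S S' hbc
  have hreg : ∀ c : R', c ∈ nonZeroDivisors R' → algebraMap R' S' c ∈ nonZeroDivisors S' := fun c hc => by
    rw [mem_nonZeroDivisors_iff_right]
    intro y hy
    refine Module.Flat.isSMulRegular_of_nonZeroDivisors hc (M := S') ?_
    show c • y = c • (0 : S')
    rw [smul_zero, Algebra.smul_def, mul_comm, hy]
  have hnzd' : algebraMap R S' f ∈ nonZeroDivisors S' ∧ algebraMap R S' j ∈ nonZeroDivisors S' := by
    rw [IsScalarTower.algebraMap_apply R R' S' f, IsScalarTower.algebraMap_apply R R' S' j]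
    exact ⟨hreg _ hnzd.1, hreg _ hnzd.2⟩
  set b := algebraMap R' S' b₀ with hbdef
  have hb' : b ∈ nonZeroDivisors S' := hreg _ hb
  have hbw : b = algebraMap R S' f * algebraMap R S' j * algebraMap R' S' w₀ := by
    rw [hbdef, hw₀, map_mul, map_mul, ← IsScalarTower.algebraMap_apply, ← IsScalarTower.algebraMap_apply]
  -- the prime `p' S'`
  haveI : IsDomain (p'.Fiber S') := by
    haveI := Lib.RG.Fibres.isDomain_of_geomIntegral hgi p'.ResidueField
    exact ((Algebra.TensorProduct.congr (AlgEquiv.refl (R := p'.ResidueField) (A₁ := p'.ResidueField))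
      (Algebra.IsPushout.equiv R R' S S').symm).trans
      (Algebra.TensorProduct.cancelBaseChange R R' p'.ResidueField p'.ResidueField S)).toMulEquiv.isDomain _
  haveI hq' := H69.Shrink.isPrime_map_of_isDomain_fiber (B := S') p'
  set q' := p'.map (algebraMap R' S') with hq'def
  obtain ⟨hdvd, z₀, hz₀, w, hw, hzw⟩ := exists_cofactor s hbc hs hCj hnzd.2 p'
  -- the finitely presented cover of `M`
  let xN : Fin n → (Fin n → S) ⧸ Submodule.span S Z := fun i =>
    Submodule.Quotient.mk (Pi.single i 1)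
  have hsum : ∀ v : Fin n → S, ∑ i, v i • xN i = Submodule.Quotient.mk v := by
    intro v
    conv_rhs => rw [pi_eq_sum_univ' v]
    rw [← Submodule.mkQ_apply, map_sum]
    simp [xN]
  have hxN : Submodule.span S (Set.range xN) = ⊤ := by
    rw [eq_top_iff]
    intro y _
    obtain ⟨v, rfl⟩ := (Submodule.span S Z).mkQ_surjective y
    exact (Submodule.mem_span_range_iff_exists_fun S).mpr ⟨v, hsum v⟩
  have hrN : rel (R := S) xN = Submodule.span S Z := by
    ext v
    rw [mem_rel, hsum, Submodule.Quotient.mk_eq_zero]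
  let N₁ := S' ⊗[S] ((Fin n → S) ⧸ Submodule.span S Z)
  let β := algebraMap R S' j
  have hN : NearPrincipal.Near N₁ r β q' := by
    refine ⟨hnzd'.2, ?_, ⟨w, hw, ?_⟩, fun i hi => ?_⟩
    · rw [ideal_baseChange, ideal_eq_of_rel xN hxN Z hrN r, ← hG, Ideal.map_span, Ideal.span_le]
      rintro _ ⟨z, hz, rfl⟩
      exact Ideal.mem_span_singleton.2 (hdvd z hz)
    · rw [ideal_baseChange, ideal_eq_of_rel xN hxN Z hrN r, ← hzw]
      exact Ideal.mem_map_of_mem _ (hG.le (Submodule.subset_span hz₀))
    · rw [ideal_baseChange, ideal_eq_of_rel xN hxN Z hrN i, eq_bot_iff, Ideal.map_le_iff_le_comap]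
      intro d hd
      obtain ⟨N, hN⟩ := hkill i hi d hd
      have h := congrArg (algebraMap S S') hN
      rw [Algebra.smul_def, map_mul, map_zero, ← IsScalarTower.algebraMap_apply R S S', map_pow] at h
      exact Ideal.mem_bot.2 ((mul_left_mem_nonZeroDivisors_eq_zero_iff (pow_mem hnzd'.1 N)).1 h)
  obtain ⟨c, hc, g, hg1, hg2⟩ := NearPrincipal.approx hN
  let T := _root_.FlatCA.powTorsion S' b M'
  let π0 : ((Fin n → S) ⧸ Submodule.span S Z) →ₗ[S] M :=
    (Submodule.span S Z).liftQ (Fintype.linearCombination S x) (Submodule.span_le.mpr hZs)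
  have hπ0 : Function.Surjective π0 := fun y => by
    obtain ⟨v, hv⟩ := (Submodule.mem_span_range_iff_exists_fun S).mp (hx ▸ Submodule.mem_top : y ∈ _)
    exact ⟨Submodule.Quotient.mk v, hv⟩
  let q : N₁ →ₗ[S'] M' := hφ.equiv.toLinearMap ∘ₗ π0.baseChange S'
  have hq : Function.Surjective q := hφ.equiv.surjective.comp (LinearMap.lTensor_surjective S' hπ0)
  haveI : Module.Finite S' M' := Module.Finite.of_surjective q hq
  have hex := lTensor_exact S' (LinearMap.exact_subtype_ker_map π0) hπ0
  -- the kernel of `q` is `b`-torsion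
  have hkq : ∀ y, q y = 0 → ∃ N : ℕ, b ^ N • y = 0 := by
    intro y hy
    have hy' : π0.lTensor S' y = 0 := hφ.equiv.injective (hy.trans (map_zero _).symm)
    obtain ⟨t, rfl⟩ := (hex y).mp hy'
    clear hy hy'
    induction t using TensorProduct.induction_on with
    | zero => exact ⟨0, by simp⟩
    | add t t' hs ht =>
      obtain ⟨N, hN⟩ := hs
      obtain ⟨N', hN'⟩ := ht
      refine ⟨N + N', ?_⟩
      rw [map_add, smul_add, pow_add, mul_smul, mul_smul, hN', smul_zero, add_zero, smul_comm, hN,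
        smul_zero]
    | tmul t v =>
      obtain ⟨v', hv'⟩ := (Submodule.span S Z).mkQ_surjective v.1
      have hv0 : v' ∈ rel (R := S) x := by
        have := v.2
        rw [← hv'] at this
        exact this
      obtain ⟨N, hN⟩ := hZpow v' hv0
      refine ⟨N, ?_⟩
      have : fS ^ N • (v : (Fin n → S) ⧸ Submodule.span S Z) = 0 := by
        rw [← hv', Submodule.mkQ_apply, ← Submodule.Quotient.mk_smul, Submodule.Quotient.mk_eq_zero]
        exact hN
      rw [LinearMap.lTensor_tmul, Submodule.subtype_apply, hbw, mul_assoc, mul_pow,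
        mul_comm, mul_smul, IsScalarTower.algebraMap_apply R S S' f, ← map_pow (algebraMap S S'),
        algebraMap_smul, ← tmul_smul, this, tmul_zero, smul_zero]
  -- `b`-torsion dies in the free quotient
  have htor : ∀ (y : N₁) (N : ℕ), b ^ N • y = 0 → β • (c * c) • y = 0 := by
    intro y N hy
    obtain ⟨u, hu, m, hm, hum⟩ := Submodule.mem_sup.1 (hg1 y)
    obtain ⟨α, rfl⟩ := (Submodule.mem_span_range_iff_exists_fun S').1 hu
    have hm' : β • m = 0 := hm
    have h0 : ∑ i, (b ^ N * α i) • g i ∈ LinearMap.ker (β • (LinearMap.id : N₁ →ₗ[S'] N₁)) := by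
      show β • ∑ i, (b ^ N * α i) • g i = 0
      simp_rw [mul_smul (b ^ N)]
      rw [← Finset.smul_sum, eq_sub_of_add_eq hum, smul_sub, smul_sub, smul_comm (b ^ N) c, hy,
        smul_zero, smul_zero, smul_comm β (b ^ N) m, hm', smul_zero, sub_zero]
    have hα : ∀ i, c * α i = 0 := fun i => by
      have := hg2 _ h0 i
      rw [mul_left_comm] at this
      exact (mul_left_mem_nonZeroDivisors_eq_zero_iff (pow_mem hb' N)).1 this
    rw [mul_smul, ← hum, smul_add, Finset.smul_sum]
    simp_rw [← mul_smul, hα, zero_smul]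
    rw [Finset.sum_const_zero, zero_add, ← mul_smul, mul_comm, mul_smul, hm', smul_zero]
  have hker : ∀ y : N₁, T.mkQ (q y) = 0 → β • (c * c) • y = 0 := by
    intro y hy
    rw [Submodule.mkQ_apply, Submodule.Quotient.mk_eq_zero] at hy
    obtain ⟨N, hN⟩ := (Submodule.mem_iSup_of_directed _
      (Monotone.directed_le fun m m' hmm z hz => by
        rw [Submodule.mem_torsionBy_iff] at hz ⊢
        rw [← Nat.sub_add_cancel hmm, pow_add, mul_smul, hz, smul_zero])).mp hy
    obtain ⟨N', hN'⟩ := hkq (b ^ N • y) (by rw [map_smul]; exact hN)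
    exact htor y (N' + N) (by rw [pow_add, mul_smul, hN'])
  have hker' : ∀ y : N₁, β • y = 0 → T.mkQ (q y) = 0 := by
    intro y hy
    rw [Submodule.mkQ_apply, Submodule.Quotient.mk_eq_zero]
    refine ker_le_powTorsion b ?_
    show b • q y = 0
    rw [← map_smul, hbw, mul_right_comm, mul_smul, show algebraMap R S' j • y = 0 from hy, smul_zero, map_zero]
  have hcp : c * c * c ∉ q' := fun h =>
    (hq'.mem_or_mem h).elim (fun h => (hq'.mem_or_mem h).elim hc hc) hc
  have hspan : ∀ y : M' ⧸ T, (c * c * c) • y ∈ Submodule.span S' (Set.range (T.mkQ ∘ q ∘ g)) := by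
    intro y
    obtain ⟨y, rfl⟩ := T.mkQ_surjective y
    obtain ⟨y, rfl⟩ := hq y
    obtain ⟨u, hu, m, hm, hum⟩ := Submodule.mem_sup.1 (hg1 y)
    rw [mul_smul, mul_smul]
    refine Submodule.smul_mem _ _ (Submodule.smul_mem _ _ ?_)
    rw [← map_smul, ← map_smul, ← hum, map_add, map_add, hker' m hm, add_zero]
    have := Submodule.mem_map_of_mem (f := T.mkQ ∘ₗ q) hu
    rw [Submodule.map_span, ← Set.range_comp] at this
    exact this
  have hind : ∀ α : Fin r → S', ∑ i, α i • (T.mkQ ∘ q ∘ g) i = 0 → ∀ i, c * c * c * α i = 0 := by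
    intro α hα i
    have h0 : T.mkQ (q (∑ k, α k • g k)) = 0 := by
      rw [map_sum, map_sum]; simpa using hα
    have h1 := hg2 (fun k => c * c * α k) (by
      show β • ∑ k, (c * c * α k) • g k = 0
      simp_rw [mul_smul (c * c)]
      rw [← Finset.smul_sum]
      exact hker _ h0) i
    linear_combination h1
  exact ⟨c * c * c, hcp, T.mkQ ∘ q ∘ g, hspan, hind⟩

/-- The centre: over an algebra where it becomes invertible, the base change of `M` modulo torsion is
free near the extension of every prime. -/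
theorem exists_center (hgi : _root_.FlatCA.GeomIntegralFibres R S) {ι : Type} [Finite ι]
    (g : ι → R) (r : ι → ℕ)
    (M : Type u) [AddCommGroup M] [Module S M] [Module.Finite S M]
    (hfp : ∀ i, Module.FinitePresentation (Localization.Away (algebraMap R S (g i)))
      (LocalizedModule (Submonoid.powers (algebraMap R S (g i))) M))
    (hfree : ∀ i, ∀ (p : Ideal R) [p.IsPrime] [(p.map (algebraMap R S)).IsPrime], g i ∉ p →
      Module.Free (Localization.AtPrime (p.map (algebraMap R S)))
        (LocalizedModule (p.map (algebraMap R S)).primeCompl M) ∧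
      Module.rank (Localization.AtPrime (p.map (algebraMap R S)))
        (LocalizedModule (p.map (algebraMap R S)).primeCompl M) = r i) :
    ∃ I : Ideal R, I.FG ∧ I.radical = (Ideal.span (Set.range g)).radical ∧
      ∀ (R' : Type u) [CommRing R'] [Algebra R R'] (ε : R'), ε ∈ nonZeroDivisors R' →
        I.map (algebraMap R R') = Ideal.span {ε} → ∀ (p' : Ideal R') [p'.IsPrime],
          ∃ c ∉ p', ∀ (R'' : Type u) [CommRing R''] [Algebra R R''] [Algebra R' R'']
            [IsScalarTower R R' R''] [IsLocalization.Away c R''] (S' M' : Type u) [CommRing S']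
            [Algebra S S'] [Algebra R'' S'] [Algebra R S'] [IsScalarTower R S S']
            [IsScalarTower R R'' S'] [Algebra.IsPushout R S R'' S'] [AddCommGroup M'] [Module S' M']
            [Module S M'] [IsScalarTower S S' M'] (φ : M →ₗ[S] M'), IsBaseChange S' φ →
            ∀ (ε' : R''), ε' ∈ nonZeroDivisors R'' → algebraMap R' R'' ε ∣ ε' →
            ∀ (p'' : Ideal R'') [p''.IsPrime],
              ∃ h : S', h ∉ p''.map (algebraMap R'' S') ∧ ∃ (k : ℕ) (u : Fin k →
                  M' ⧸ _root_.FlatCA.powTorsion S' (algebraMap R'' S' ε') M'),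
                (∀ y : M' ⧸ _root_.FlatCA.powTorsion S' (algebraMap R'' S' ε') M',
                    h • y ∈ Submodule.span S' (Set.range u)) ∧
                  ∀ α : Fin k → S', ∑ i, α i • u i = 0 → ∀ i, h * α i = 0 := by
  classical
  haveI := Fintype.ofFinite ι
  haveI := projective hgi
  obtain ⟨s, hs'⟩ := Module.projective_def'.1 ‹Module.Projective R S›
  have hs : ∀ z : S, Finsupp.linearCombination R id (s z) = z := fun z => LinearMap.congr_fun hs' z
  haveI hdom : ∀ (p : Ideal R) [p.IsPrime], IsDomain (p.Fiber S) := fun p _ =>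
    Lib.RG.Fibres.isDomain_of_geomIntegral hgi p.ResidueField
  obtain ⟨n, x, hx⟩ := Module.Finite.exists_fin (R := S) (M := M)
  choose Zi hZifin hZis hZipow using fun i =>
    haveI := hfp i
    exists_finite_rel_away (algebraMap R S (g i)) x hx
  let Z : Set (Fin n → S) := ⋃ i, Zi i
  have hZfin : Z.Finite := Set.finite_iUnion hZifin
  have hZs : Z ⊆ (rel (R := S) x : Set (Fin n → S)) := Set.iUnion_subset hZis
  choose G hG using fun k : ℕ => Mn_fg hZfin (n - k)
  -- powers killing the products of elements with distinct ranks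
  have hnil : ∀ a b, r a ≠ r b → IsNilpotent (g a * g b) := by
    intro a b hab
    rw [nilpotent_iff_mem_prime]
    intro p hp
    by_contra h
    haveI := H69.Shrink.isPrime_map_of_isDomain_fiber (B := S) p
    have ha := (hfree a p fun h' => h (p.mul_mem_right _ h')).2
    have hb := (hfree b p fun h' => h (p.mul_mem_left _ h')).2
    exact hab (by exact_mod_cast ha.symm.trans hb)
  choose! Nab hNab using hnil
  let N : ℕ := (Finset.univ.sup fun ab : ι × ι => Nab ab.1 ab.2) + 1
  let f : ι → R := fun i => g i ^ N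
  have hff : ∀ a b, r a ≠ r b → f a * f b = 0 := fun a b hab => by
    rw [← mul_pow]
    exact pow_eq_zero_of_le ((Finset.le_sup (f := fun ab : ι × ι => Nab ab.1 ab.2)
      (Finset.mem_univ (a, b))).trans (Nat.le_succ _)) (hNab a b hab)
  have hfrees : ∀ i, ∀ (p : Ideal R) [p.IsPrime] [(p.map (algebraMap R S)).IsPrime], f i ∉ p →
      Module.Free (Localization.AtPrime (p.map (algebraMap R S)))
        (LocalizedModule (p.map (algebraMap R S)).primeCompl M) ∧
      Module.rank (Localization.AtPrime (p.map (algebraMap R S)))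
        (LocalizedModule (p.map (algebraMap R S)).primeCompl M) = r i :=
    fun i p _ _ h => hfree i p fun h' => h (p.pow_mem_of_mem h' N (Nat.succ_pos _))
  have hZpow : ∀ i, ∀ v ∈ rel (R := S) x,
      ∃ m : ℕ, algebraMap R S (f i) ^ m • v ∈ Submodule.span S Z := by
    intro i v hv
    obtain ⟨m, hm⟩ := hZipow i v hv
    refine ⟨m, ?_⟩
    rw [map_pow, ← pow_mul,
      show N * m = ((N - 1) * m) + m from by rw [Nat.sub_mul, one_mul]; exact
        (Nat.sub_add_cancel (Nat.le_mul_of_pos_left m (Nat.succ_pos _))).symm,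
      pow_add, mul_smul]
    exact Submodule.smul_mem _ _ (Submodule.span_mono (Set.subset_iUnion Zi i) hm)
  have hfacts := fun i => generic_facts hgi s hs (f i) (r i) x hx hZs (hZpow i) (hG (r i)) (hfrees i)
  let C : ℕ → Ideal R := fun k => content s (G k : Set S)
  let K : ℕ → Ideal R := fun k => C k ⊔ Ideal.span (f '' {b | r b ≠ k})
  let ks : Finset ℕ := Finset.univ.image r
  have hKfg : ∀ t : Finset ℕ, (∏ k ∈ t, K k).FG := fun t => by
    induction t using Finset.induction_on with
    | empty =>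
      rw [Finset.prod_empty]
      exact ⟨{1}, by simp⟩
    | insert k t hk ih =>
      rw [Finset.prod_insert hk]
      exact (Submodule.FG.sup (content_fg s (G k).finite_toSet)
        (Submodule.fg_span ((Set.toFinite _).image f))).mul ih
  refine ⟨Ideal.span (Set.range f) * ∏ k ∈ ks, K k,
    (Submodule.fg_span (Set.finite_range f)).mul (hKfg ks), le_antisymm ?_ ?_, ?_⟩
  · refine Ideal.radical_mono (Ideal.mul_le_left.trans ?_)
    rw [Ideal.span_le]
    rintro _ ⟨i, rfl⟩
    exact Ideal.pow_mem_of_mem _ (Ideal.subset_span (Set.mem_range_self i)) N (Nat.succ_pos _)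
  · rw [Ideal.radical_le_radical_iff, Ideal.span_le]
    rintro _ ⟨i, rfl⟩
    rw [SetLike.mem_coe, Ideal.radical_eq_sInf, Submodule.mem_sInf]
    rintro (p : Ideal R) ⟨hle, hp⟩
    refine hp.mem_of_pow_mem N ?_
    rcases hp.mul_le.1 hle with h | h
    · exact h (Ideal.subset_span (Set.mem_range_self i))
    obtain ⟨k, -, hk⟩ := hp.prod_le.1 h
    obtain ⟨hC, hO⟩ := sup_le_iff.1 hk
    by_cases hik : r i = k
    · subst hik
      exact hp.radical_le_iff.2 hC (hfacts i).1
    · exact hO (Ideal.subset_span ⟨i, hik, rfl⟩)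
  intro R' _ _ ε hε hI p' _
  rw [Ideal.map_mul, Ideal.map_span, ← Set.range_comp] at hI
  obtain ⟨_, ⟨i, rfl⟩, bI, hbI, cI, hcI, hgc⟩ := exists_factor hI hε p'
  have hmem : r i ∈ ks := Finset.mem_image_of_mem r (Finset.mem_univ i)
  set Q : Ideal R := ∏ k ∈ ks.erase (r i), K k with hQ
  have hprod : ∏ k ∈ ks, K k = K (r i) * Q := (Finset.mul_prod_erase ks K hmem).symm
  have hK : K (r i) = Ideal.span ((C (r i) : Set R) ∪ f '' {b | r b ≠ r i}) := by
    rw [Ideal.span_union, Ideal.span_eq]
  let A : Ideal R' := Ideal.span (Set.range (algebraMap R R' ∘ f)) * Q.map (algebraMap R R')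
  have hI' : Ideal.span (algebraMap R R' '' ((C (r i) : Set R) ∪ f '' {b | r b ≠ r i})) * A =
      Ideal.span {ε} := by
    rw [← hI, hprod, Ideal.map_mul, ← Ideal.map_span, ← hK]
    simp only [A]
    ring
  obtain ⟨_, ⟨z, hz, rfl⟩, bK, hbK, cK, hcK, hzc⟩ := exists_factor hI' hε p'
  have hzC : z ∈ C (r i) := by
    rcases hz with hz | ⟨b, hb, rfl⟩
    · exact hz
    exfalso
    have h0 : ε * (ε * (cI * cK)) = 0 := by
      rw [show ε * (ε * (cI * cK)) = (cI * ε) * (cK * ε) by ring, ← hgc, ← hzc,
        show (algebraMap R R' ∘ f) i * bI * (algebraMap R R' (f b) * bK) =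
          algebraMap R R' (f i * f b) * (bI * bK) by rw [map_mul, Function.comp_apply]; ring,
        hff i b (Ne.symm hb), map_zero, zero_mul]
    have h1 := (mul_left_mem_nonZeroDivisors_eq_zero_iff hε).1
      ((mul_left_mem_nonZeroDivisors_eq_zero_iff hε).1 h0)
    exact ((‹p'.IsPrime›.mem_or_mem (h1 ▸ zero_mem p' : cI * cK ∈ p')).elim hcI hcK)
  refine ⟨cI * cK, fun h => (‹p'.IsPrime›.mem_or_mem h).elim hcI hcK, ?_⟩
  intro R'' _ _ _ _ _ S' M' _ _ _ _ _ _ _ _ _ _ _ φ hφ ε' hε'n hdvd p'' _
  have hu : IsUnit (algebraMap R' R'' (cI * cK)) := IsLocalization.Away.algebraMap_isUnit _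
  rw [map_mul, IsUnit.mul_iff] at hu
  have hε' : algebraMap R' R'' ε ∈ nonZeroDivisors R'' :=
    haveI : Module.Flat R' R'' := IsLocalization.flat R'' (Submonoid.powers (cI * cK))
    Lib.Ideal.EffCartier.mem_nonZeroDivisors_of_flat (RingHom.flat_algebraMap_iff.2 inferInstance) hε
  have key : ∀ (J₁ J₂ : Ideal R') (a b c : R'), J₁ * J₂ = Ideal.span {ε} → a ∈ J₁ → b ∈ J₂ →
      IsUnit (algebraMap R' R'' c) → a * b = c * ε →
      J₁.map (algebraMap R' R'') = Ideal.span {algebraMap R' R'' a} := fun J₁ J₂ a b c h ha hb hc he =>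
    (Lib.Ideal.EffCartier.eq_span_of_mul_eq
      (by rw [← Ideal.map_mul, h, Ideal.map_span, Set.image_singleton]) hε'
      (Ideal.mem_map_of_mem (algebraMap R' R'') ha) (Ideal.mem_map_of_mem (algebraMap R' R'') hb) hc
      (by rw [← map_mul, he, map_mul])).2
  have e1 := key _ _ _ _ _ hI (Ideal.subset_span (Set.mem_range_self i)) hbI hu.1 hgc
  have e2 := key _ _ _ _ _ hI' (Ideal.subset_span (Set.mem_image_of_mem _ hz)) hbK hu.2 hzc
  rw [Function.comp_apply, ← IsScalarTower.algebraMap_apply] at e1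
  rw [← Ideal.map_span, ← hK, Ideal.map_map, ← IsScalarTower.algebraMap_eq,
    ← IsScalarTower.algebraMap_apply] at e2
  have hCj : (C (r i)).map (algebraMap R R'') = Ideal.span {algebraMap R R'' z} :=
    le_antisymm ((Ideal.map_mono le_sup_left).trans e2.le)
      ((Ideal.span_singleton_le_iff_mem _).2 (Ideal.mem_map_of_mem _ hzC))
  have hdiv : algebraMap R R'' (f i) * algebraMap R R'' z ∣ algebraMap R' R'' ε := by
    rw [← Ideal.mem_span_singleton, ← Ideal.span_singleton_mul_span_singleton, ← e1, ← e2]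
    have h := Ideal.mem_map_of_mem (algebraMap R' R'') (hI.ge (Ideal.mem_span_singleton_self ε))
    rw [hprod, Ideal.map_mul, Ideal.map_mul (algebraMap R R'), Ideal.map_mul, Ideal.map_map,
      ← IsScalarTower.algebraMap_eq, ← mul_assoc] at h
    exact Ideal.mul_le_left h
  obtain ⟨h, hh, u, hu⟩ := approx_free hgi s hs (f i) z (r i) x hx hZs (hZpow i) (hG (r i))
    (hfacts i).2 ε' hε'n (hdiv.trans hdvd) hCj φ hφ p''
  exact ⟨h, hh, r i, u, hu⟩

end Groth.Agent.H25.BlowFree.General
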