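import Groth.Agent.H25.BlowFree.Rank
import Groth.Agent.H22.StrictTransform.Module
import Groth.Agent.Lib.CechRes.PullSec
import Groth.Agent.Lib.HilbD.Content
import Groth.Agent.Lib.Kaehler.LocFree
import Groth.Agent.S8857
import Groth.Agent.S8859
import Groth.Prelude.Def_BlowUp2

/-!
The strict transform after an admissible blow-up is finite locally free on an open surjecting onto
the base.
-/

set_option autoImplicit false
set_option linter.style.haveILetI false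
universe u

open CategoryTheory CategoryTheory.Limits AlgebraicGeometry Opposite TopologicalSpace
open Groth.Agent.Lib

namespace Groth.Agent.H25.BlowFree.Global

/-- A spanning and independent family up to powers gives a projective localization. -/
theorem finite_projective_localized {R : Type u} [CommRing R] (T : Submonoid R) (A : Type u)
    [CommRing A] [Algebra R A] [IsLocalization T A] {M N : Type u} [AddCommGroup M] [Module R M]
    [AddCommGroup N] [Module R N] [Module A N] [IsScalarTower R A N] (f : M →ₗ[R] N)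
    [IsLocalizedModule T f] {k : ℕ} (u : Fin k → M)
    (hs : ∀ y : M, ∃ t ∈ T, t • y ∈ Submodule.span R (Set.range u))
    (hi : ∀ a : Fin k → R, ∑ i, a i • u i = 0 → ∀ i, ∃ t ∈ T, t * a i = 0) :
    Module.Finite A N ∧ Module.Projective A N := by
  have hli : LinearIndependent A (f ∘ u) := by
    rw [Fintype.linearIndependent_iff]
    intro b hb i
    obtain ⟨t, ht⟩ := IsLocalization.exist_integer_multiples T Finset.univ b
    choose a ha using fun i => ht i (Finset.mem_univ i)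
    have h0 : f (∑ i, a i • u i) = 0 := by
      rw [map_sum, ← smul_zero (t : R), ← hb, Finset.smul_sum]
      refine Finset.sum_congr rfl fun j _ => ?_
      rw [map_smul, Function.comp_apply, ← algebraMap_smul A (a j), ha, smul_assoc]
    obtain ⟨s', hs'⟩ := (IsLocalizedModule.eq_zero_iff T f).mp h0
    have h1 : ∑ j, ((s' : R) * a j) • u j = 0 := by
      simpa [Finset.smul_sum, mul_smul, Submonoid.smul_def] using hs'
    obtain ⟨s, hsT, hsa⟩ := hi _ h1 i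
    have h2 : algebraMap R A (s * (s' : R) * t) * b i = 0 := by
      rw [map_mul, mul_assoc, ← Algebra.smul_def (t : R) (b i), ← ha, ← map_mul, mul_assoc, hsa,
        map_zero]
    exact ((IsLocalization.map_units A
      (⟨s * (s' : R) * t, T.mul_mem (T.mul_mem hsT s'.2) t.2⟩ : T)).mul_right_eq_zero).mp h2
  have hsp : (⊤ : Submodule A N) ≤ Submodule.span A (Set.range (f ∘ u)) := by
    rintro y -
    obtain ⟨⟨m, t⟩, rfl⟩ := IsLocalizedModule.mk'_surjective T f y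
    obtain ⟨s, hsT, hm⟩ := hs m
    have h1 : f (s • m) ∈ Submodule.span A (Set.range (f ∘ u)) := by
      have := Submodule.mem_map_of_mem (f := f) hm
      rw [Submodule.map_span, ← Set.range_comp] at this
      exact Submodule.span_le_restrictScalars R A _ this
    have h2 := Submodule.smul_mem _ (IsLocalization.mk' A (1 : R) (t * ⟨s, hsT⟩)) h1
    rwa [← IsLocalizedModule.mk'_one T, IsLocalizedModule.mk'_smul_mk', one_smul, mul_one,
      mul_comm t, show s • m = (⟨s, hsT⟩ : T) • m from rfl, IsLocalizedModule.mk'_cancel_left] at h2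
  let b := Module.Basis.mk hli hsp
  exact ⟨Module.Finite.of_basis b, Module.Projective.of_basis b⟩

theorem mem_powTorsion {R : Type u} [CommRing R] (b : R) {M : Type u} [AddCommGroup M] [Module R M]
    (m : M) : m ∈ _root_.FlatCA.powTorsion R b M ↔ ∃ N : ℕ, b ^ N • m = 0 := by
  refine (Submodule.mem_iSup_of_directed _ (Monotone.directed_le fun i j hij z hz => ?_)).trans
    (exists_congr fun N => Submodule.mem_torsionBy_iff _ _)
  rw [Submodule.mem_torsionBy_iff] at hz ⊢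
  rw [← Nat.sub_add_cancel hij, pow_add, mul_smul, hz, smul_zero]

variable {X S : Scheme.{u}}

theorem isAdmissible_prod {ι : Type*} (U : S.Opens) (t : Finset ι) (J : ι → S.IdealSheafData)
    (h : ∀ i ∈ t, BlowUp.IsAdmissibleFor U (J i)) : BlowUp.IsAdmissibleFor U (∏ i ∈ t, J i) := by
  classical
  induction t using Finset.induction_on with
  | empty =>
    rw [Finset.prod_empty, Scheme.IdealSheafData.one_eq_top]
    refine ⟨fun V => ⟨{1}, by simp⟩, ?_⟩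
    rw [Scheme.IdealSheafData.support_top]
    simp
  | insert i t hi ih =>
    rw [Finset.prod_insert hi]
    obtain ⟨h1, h1'⟩ := h i (Finset.mem_insert_self i t)
    obtain ⟨h2, h2'⟩ := ih fun j hj => h j (Finset.mem_insert_of_mem hj)
    refine ⟨fun V => ?_, ?_⟩
    · rw [Scheme.IdealSheafData.ideal_mul, Pi.mul_apply]
      exact (h1 V).mul (h2 V)
    · rw [Scheme.IdealSheafData.support_mul]
      exact Set.disjoint_union_left.2 ⟨h1', h2'⟩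

/-- An ideal of an affine open extends to an admissible centre. -/
theorem exists_extension [CompactSpace S] [QuasiSeparatedSpace S] (U : S.Opens)
    (hU : IsCompact (U : Set S)) {W : S.Opens} (hW : IsAffineOpen W) (I : Ideal Γ(S, W)) (hI : I.FG)
    (hdisj : ∀ s ∈ W ⊓ U, ∃ a ∈ I, s ∈ S.basicOpen a) :
    ∃ J : S.IdealSheafData, BlowUp.IsAdmissibleFor U J ∧ J.ideal ⟨W, hW⟩ = I := by
  haveI : IsAffine (W : Scheme.{u}) := hW
  let I₀ : Ideal Γ((W : Scheme.{u}), ⊤) := I.map W.topIso.inv.hom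
  let J₀ : (W : Scheme.{u}).IdealSheafData := Scheme.IdealSheafData.ofIdealTop I₀
  have hJ₀ : J₀.ideal ⟨⊤, isAffineOpen_top _⟩ = I₀ :=
    Scheme.IdealSheafData.equivOfIsAffine.right_inv _
  have hadm : BlowUp.IsAdmissibleFor (W.ι ⁻¹ᵁ U) J₀ := by
    refine ⟨fun V => ?_, Set.disjoint_left.2 fun y hy hyU => ?_⟩
    · rw [← J₀.map_ideal (V := ⟨⊤, isAffineOpen_top _⟩) (U := V) (show V.1 ≤ ⊤ from le_top), hJ₀]
      exact (hI.map _).map _
    · have hmem : y ∈ (J₀.support : Set (W : Scheme.{u})) ∩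
          ((⊤ : (W : Scheme.{u}).Opens) : Set (W : Scheme.{u})) := ⟨hy, trivial⟩
      rw [J₀.coe_support_inter ⟨⊤, isAffineOpen_top _⟩, hJ₀] at hmem
      obtain ⟨a, ha, hya⟩ := hdisj y.1 ⟨y.2, hyU⟩
      refine (Scheme.mem_zeroLocus_iff _ _ _).1 hmem.1 _ (Ideal.mem_map_of_mem _ ha) ?_
      obtain ⟨z, hz, hzy⟩ :=
        (W.ι_image_basicOpen_topIso_inv a).ge (show y.1 ∈ S.basicOpen a from hya)
      rwa [← W.ι.isOpenEmbedding.injective hzy]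
  obtain ⟨J, hJ, hJW, -⟩ := Groth.Agent.S8857.result S U W hU hW.isCompact J₀ hadm
  refine ⟨J, hJ, ?_⟩
  have h := Lib.Ideal.Comap.ideal_comap_ι_top ⟨W, hW⟩ J
  rw [hJW] at h
  have h' := congrArg (Ideal.map W.topIso.hom.hom) (hJ₀.symm.trans h)
  rw [Ideal.map_map, Ideal.map_map, ← CommRingCat.hom_comp, Iso.inv_hom_id, CommRingCat.hom_id,
    Ideal.map_id, Ideal.map_id] at h'
  exact h'.symm

/-- Modules which are locally free on the members of a family of opens are so on their union. -/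
theorem isFinLocFree_sSup (G : X.Modules) :
    let V : X.Opens := sSup {O | ∃ n, Nonempty (G.restrict O.ι ≅ FlatMod.freeMod (↑O) n)}
    FlatMod.IsFinLocFree ((Scheme.Modules.pullback V.ι).obj G) := by
  intro V
  refine Kaehler.LocFree.isFinLocFree_of_charts _ fun x => ?_
  obtain ⟨O, ⟨n, ⟨e⟩⟩, hxO⟩ := Opens.mem_sSup.1 x.2
  have hO : O ≤ V := le_sSup ⟨n, ⟨e⟩⟩
  let j := X.homOfLE hO
  refine ⟨O, j, inferInstance, n, ⟨⟨x.1, hxO⟩, Subtype.ext ?_⟩, ⟨?_⟩⟩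
  · have := Scheme.homOfLE_apply hO (⟨x.1, hxO⟩ : O)
    exact this
  · exact (Scheme.Modules.restrictFunctor j).mapIso
        ((Scheme.Modules.restrictFunctorIsoPullback V.ι).app G).symm ≪≫
      ((Scheme.Modules.restrictFunctorComp j V.ι).app G).symm ≪≫
      (Scheme.Modules.restrictFunctorCongr (X.homOfLE_ι hO)).app G ≪≫ e

variable (f : X ⟶ S) [IsAffineHom f] [LocallyOfFinitePresentation f] [Flat f] [GeometricallyIntegral f]

theorem main [CompactSpace S] [QuasiSeparatedSpace S]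
    (U : S.Opens) (hU : IsCompact (U : Set S))
    (F : X.Modules) [F.IsQuasicoherent] [SheafOfModules.IsFiniteType (R := X.ringCatSheaf) F]
    (hfpU : CohB1.IsFP ((Scheme.Modules.pullback (f ⁻¹ᵁ U).ι).obj F))
    (hflU : ∀ x : X, f.base x ∈ U →
      closure ({f.asFiber x} : Set (f.fiber (f.base x))) = Set.univ → FlatMod.IsFlatOverAt f F x) :
    ∃ (𝓘 : S.IdealSheafData) (S' : Scheme.{u}) (b : S' ⟶ S), BlowUp.IsBlowUp b 𝓘 ∧
      BlowUp.IsAdmissibleFor U 𝓘 ∧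
      ∀ (X' : Scheme.{u}) (p₁ : X' ⟶ X) (p₂ : X' ⟶ S'), IsPullback p₁ p₂ f b →
      ∀ (G : X'.Modules) (π : (Scheme.Modules.pullback p₁).obj F ⟶ G),
        BlowUp.IsStrictTransform p₁ (𝓘.comap f) F G π →
        ∃ V : X'.Opens, FlatMod.IsFinLocFree ((Scheme.Modules.pullback V.ι).obj G) ∧
          Function.Surjective (V.ι ≫ p₂).base := by
  classical
  -- a finite affine cover
  choose W hW hsW _ using fun s : S =>
    exists_isAffineOpen_mem_and_subset (show s ∈ (⊤ : S.Opens) from trivial)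
  obtain ⟨t, ht⟩ := isCompact_univ.elim_finite_subcover (fun s : S => (W s : Set S))
    (fun s => (W s).2) fun s _ => Set.mem_iUnion.2 ⟨s, hsW s⟩
  choose k g r hcov hfp hfree using fun s : S => Rank.exists_rank_data f U hU F hfpU hflU (hW s)
  have hcen : ∀ s : S, ∃ J : S.IdealSheafData, BlowUp.IsAdmissibleFor U J ∧
      ∀ (R' : Type u) [CommRing R'] [Algebra Γ(S, W s) R'] (ε : R'), ε ∈ nonZeroDivisors R' →
        (J.ideal ⟨W s, hW s⟩).map (algebraMap Γ(S, W s) R') = Ideal.span {ε} →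
        letI := (f.appLE (W s) (f ⁻¹ᵁ W s) le_rfl).hom.toAlgebra
        ∀ (p' : Ideal R') [p'.IsPrime],
          ∃ c ∉ p', ∀ (R'' : Type u) [CommRing R''] [Algebra Γ(S, W s) R''] [Algebra R' R'']
            [IsScalarTower Γ(S, W s) R' R''] [IsLocalization.Away c R''] (S₂ M' : Type u) [CommRing S₂]
            [Algebra Γ(X, f ⁻¹ᵁ W s) S₂] [Algebra R'' S₂] [Algebra Γ(S, W s) S₂]
            [IsScalarTower Γ(S, W s) Γ(X, f ⁻¹ᵁ W s) S₂] [IsScalarTower Γ(S, W s) R'' S₂]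
            [Algebra.IsPushout Γ(S, W s) Γ(X, f ⁻¹ᵁ W s) R'' S₂] [AddCommGroup M'] [Module S₂ M']
            [Module Γ(X, f ⁻¹ᵁ W s) M'] [IsScalarTower Γ(X, f ⁻¹ᵁ W s) S₂ M']
            (φ : Γ(F, f ⁻¹ᵁ W s) →ₗ[Γ(X, f ⁻¹ᵁ W s)] M'), IsBaseChange S₂ φ →
            ∀ (ε' : R''), ε' ∈ nonZeroDivisors R'' → algebraMap R' R'' ε ∣ ε' →
            ∀ (p'' : Ideal R'') [p''.IsPrime],
              ∃ h : S₂, h ∉ p''.map (algebraMap R'' S₂) ∧ ∃ (k : ℕ) (u : Fin k →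
                  M' ⧸ _root_.FlatCA.powTorsion S₂ (algebraMap R'' S₂ ε') M'),
                (∀ y : M' ⧸ _root_.FlatCA.powTorsion S₂ (algebraMap R'' S₂ ε') M',
                    h • y ∈ Submodule.span S₂ (Set.range u)) ∧
                  ∀ α : Fin k → S₂, ∑ i, α i • u i = 0 → ∀ i, h * α i = 0 := by
    intro s
    have hP := (hW s).preimage f
    letI : Algebra Γ(S, W s) Γ(X, f ⁻¹ᵁ W s) := (f.appLE (W s) (f ⁻¹ᵁ W s) le_rfl).hom.toAlgebra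
    haveI : Algebra.FinitePresentation Γ(S, W s) Γ(X, f ⁻¹ᵁ W s) :=
      HasRingHomProperty.appLE @LocallyOfFinitePresentation f inferInstance ⟨_, hW s⟩ ⟨_, hP⟩ le_rfl
    haveI : Module.Flat Γ(S, W s) Γ(X, f ⁻¹ᵁ W s) :=
      HasRingHomProperty.appLE @Flat f inferInstance ⟨_, hW s⟩ ⟨_, hP⟩ le_rfl
    haveI : Module.Finite Γ(X, f ⁻¹ᵁ W s) Γ(F, f ⁻¹ᵁ W s) := Lib.CohBasics.Affine.finite_sections hP
    obtain ⟨I, hIfg, hrad, hI⟩ := General.exists_center (Rank.geomIntegralFibres f (hW s))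
      (g s) (r s) Γ(F, f ⁻¹ᵁ W s) (hfp s) (hfree s)
    obtain ⟨J, hJ, hJW⟩ := exists_extension U hU (hW s) I hIfg (fun z hz => by
      obtain ⟨i, hi⟩ := Set.mem_iUnion.1 ((hcov s).le hz)
      obtain ⟨N, hN⟩ := (show g s i ∈ I.radical from
        hrad.ge (Ideal.le_radical (Ideal.subset_span (Set.mem_range_self i))))
      refine ⟨g s i ^ (N + 1), by rw [pow_succ]; exact I.mul_mem_right _ hN, ?_⟩
      rwa [Scheme.basicOpen_pow _ _ (Nat.succ_pos N)])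
    exact ⟨J, hJ, fun R' _ _ ε hε he => hI R' ε hε (hJW ▸ he)⟩
  choose J hJadm hJ using hcen
  obtain ⟨S', b, hb⟩ := Groth.Agent.S8859.result S (∏ s ∈ t, J s)
  refine ⟨∏ s ∈ t, J s, S', b, hb, isAdmissible_prod U t J fun s _ => hJadm s, ?_⟩
  intro X' p₁ p₂ H G π hG
  haveI : Flat p₂ := MorphismProperty.of_isPullback H ‹Flat f›
  haveI : IsAffineHom p₂ := MorphismProperty.of_isPullback H ‹IsAffineHom f›
  haveI : GeometricallyIntegral p₂ := MorphismProperty.of_isPullback H ‹GeometricallyIntegral f›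
  obtain ⟨hepi, hker⟩ := hG
  haveI := hepi
  have hexc : ((∏ s ∈ t, J s).comap f).comap p₁ = ((∏ s ∈ t, J s).comap b).comap p₂ := by
    rw [← Scheme.IdealSheafData.comap_comp, H.w, Scheme.IdealSheafData.comap_comp]
  have hE : BlowUp.IsEffCartierIdeal (((∏ s ∈ t, J s).comap f).comap p₁) := by
    rw [hexc]
    exact Lib.Ideal.EffCartier.isEffCartier_comap_of_flat p₂ hb.1
  haveI := QCoh.Pullback.isQCoh_pullback p₁ F
  haveI : G.IsQuasicoherent := H22.StrictTransform.isQCoh' π hE hker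
  refine ⟨sSup {O | ∃ n, Nonempty (G.restrict O.ι ≅ FlatMod.freeMod (↑O) n)},
    isFinLocFree_sSup G, fun s' => ?_⟩
  suffices h : ∃ (x : X') (O : X'.Opens) (n : ℕ), x ∈ O ∧
      Nonempty (G.restrict O.ι ≅ FlatMod.freeMod (↑O) n) ∧ p₂ x = s' by
    obtain ⟨x, O, n, hxO, he, hx⟩ := h
    exact ⟨⟨x, Opens.mem_sSup.2 ⟨O, ⟨n, he⟩, hxO⟩⟩, hx⟩
  obtain ⟨s, hst, hbs⟩ := Set.mem_iUnion₂.1 (ht (Set.mem_univ (b s')))
  -- affine opens of `S'` on which the centres are principal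
  have hbJ : BlowUp.IsEffCartierIdeal ((J s).comap b) := by
    have h := hb.1
    rw [← Finset.mul_prod_erase t J hst, Lib.Ideal.Comap.comap_mul] at h
    exact Lib.Ideal.EffCartier.isEffCartier_factor_left h
  obtain ⟨W₁, hs₁, hW₁, ε₁, hε₁, hJ₁⟩ :=
    Lib.Ideal.EffCartier.exists_gen hbJ s' (W := b ⁻¹ᵁ W s) hbs
  obtain ⟨W₂, hs₂, hW₂, ε₂, hε₂, hJ₂⟩ := Lib.Ideal.EffCartier.exists_gen hb.1 s' hs₁
  have hW₂b : W₂.1 ≤ b ⁻¹ᵁ W s := hW₂.trans hW₁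
  let ε : Γ(S', W₂.1) := S'.presheaf.map (homOfLE hW₂).op ε₁
  have hε : ε ∈ nonZeroDivisors Γ(S', W₂.1) := Lib.Ideal.EffCartier.res_mem_nonZeroDivisors W₁.2 hW₂ hε₁
  have hJε : ((J s).comap b).ideal W₂ = Ideal.span {ε} :=
    Lib.Ideal.EffCartier.ideal_eq_span_of_le hW₂ hJ₁
  have hdvd : ε ∣ ε₂ := by
    rw [← Ideal.mem_span_singleton, ← hJε]
    have h := hJ₂.ge (Ideal.mem_span_singleton_self ε₂)
    rw [← Finset.mul_prod_erase t J hst, Lib.Ideal.Comap.comap_mul, Scheme.IdealSheafData.ideal_mul,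
      Pi.mul_apply] at h
    exact Ideal.mul_le_left h
  letI : Algebra Γ(S, W s) Γ(X, f ⁻¹ᵁ W s) := (f.appLE (W s) (f ⁻¹ᵁ W s) le_rfl).hom.toAlgebra
  letI : Algebra Γ(S, W s) Γ(S', W₂.1) := (b.appLE (W s) W₂.1 hW₂b).hom.toAlgebra
  obtain ⟨c, hc, hfree'⟩ := hJ s Γ(S', W₂.1) ε hε
    ((Lib.Ideal.Comap.ideal_comap b (J s) ⟨W s, hW s⟩ W₂ hW₂b).symm.trans hJε)
    (W₂.2.primeIdealOf ⟨s', hs₂⟩).asIdeal
  let W₃ : S'.affineOpens := ⟨S'.basicOpen c, W₂.2.basicOpen c⟩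
  have hs₃ : s' ∈ W₃.1 := (Lib.Ideal.EffCartier.mem_basicOpen_iff_notMem_prime W₂.2 hs₂ c).2 hc
  have h₃₂ : W₃.1 ≤ W₂.1 := S'.basicOpen_le c
  have hW₃b : W₃.1 ≤ b ⁻¹ᵁ W s := h₃₂.trans hW₂b
  have e' : p₂ ⁻¹ᵁ W₃.1 ≤ p₁ ⁻¹ᵁ (f ⁻¹ᵁ W s) := by
    rw [← Scheme.Hom.comp_preimage, H.w, Scheme.Hom.comp_preimage]
    exact p₂.preimage_mono hW₃b
  have hP : IsAffineOpen (f ⁻¹ᵁ W s) := (hW s).preimage f
  have hY : IsAffineOpen (p₂ ⁻¹ᵁ W₃.1) := W₃.2.preimage p₂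
  letI : Algebra Γ(S', W₂.1) Γ(S', W₃.1) := (QCoh.Localizing.resR h₃₂).toAlgebra
  letI : Algebra Γ(S, W s) Γ(S', W₃.1) := (b.appLE (W s) W₃.1 hW₃b).hom.toAlgebra
  haveI : IsScalarTower Γ(S, W s) Γ(S', W₂.1) Γ(S', W₃.1) :=
    IsScalarTower.of_algebraMap_eq fun a =>
      congr($((Scheme.Hom.appLE_map b hW₂b (homOfLE h₃₂).op).symm) a)
  haveI : IsLocalization.Away c Γ(S', W₃.1) := W₂.2.isLocalization_basicOpen c
  letI : Algebra Γ(S', W₃.1) Γ(X', p₂ ⁻¹ᵁ W₃.1) :=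
    (p₂.appLE W₃.1 (p₂ ⁻¹ᵁ W₃.1) le_rfl).hom.toAlgebra
  letI : Algebra Γ(X, f ⁻¹ᵁ W s) Γ(X', p₂ ⁻¹ᵁ W₃.1) :=
    (p₁.appLE (f ⁻¹ᵁ W s) (p₂ ⁻¹ᵁ W₃.1) e').hom.toAlgebra
  letI : Algebra Γ(S, W s) Γ(X', p₂ ⁻¹ᵁ W₃.1) :=
    (f.appLE (W s) (f ⁻¹ᵁ W s) le_rfl ≫ p₁.appLE (f ⁻¹ᵁ W s) (p₂ ⁻¹ᵁ W₃.1) e').hom.toAlgebra
  haveI : IsScalarTower Γ(S, W s) Γ(X, f ⁻¹ᵁ W s) Γ(X', p₂ ⁻¹ᵁ W₃.1) :=
    IsScalarTower.of_algebraMap_eq fun _ => rfl
  have hw : f.appLE (W s) (f ⁻¹ᵁ W s) le_rfl ≫ p₁.appLE (f ⁻¹ᵁ W s) (p₂ ⁻¹ᵁ W₃.1) e' =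
      b.appLE (W s) W₃.1 hW₃b ≫ p₂.appLE W₃.1 (p₂ ⁻¹ᵁ W₃.1) le_rfl := by
    rw [Scheme.Hom.appLE_comp_appLE, Scheme.Hom.appLE_comp_appLE]
    simp only [H.w]
  haveI : IsScalarTower Γ(S, W s) Γ(S', W₃.1) Γ(X', p₂ ⁻¹ᵁ W₃.1) :=
    IsScalarTower.of_algebraMap_eq fun a => congr($hw a)
  haveI : Algebra.IsPushout Γ(S, W s) Γ(X, f ⁻¹ᵁ W s) Γ(S', W₃.1) Γ(X', p₂ ⁻¹ᵁ W₃.1) := by
    have h := HilbD.Content.isPushout_appLE H ⟨W s, hW s⟩ W₃ hW₃b e'
    simp only [Scheme.Hom.app_eq_appLE] at h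
    exact (CommRingCat.isPushout_iff_isPushout.mp h).symm
  let P := (Scheme.Modules.pullback p₁).obj F
  letI : Module Γ(X, f ⁻¹ᵁ W s) Γ(P, p₂ ⁻¹ᵁ W₃.1) :=
    Module.compHom _ (p₁.appLE (f ⁻¹ᵁ W s) (p₂ ⁻¹ᵁ W₃.1) e').hom
  haveI : IsScalarTower Γ(X, f ⁻¹ᵁ W s) Γ(X', p₂ ⁻¹ᵁ W₃.1) Γ(P, p₂ ⁻¹ᵁ W₃.1) :=
    IsScalarTower.of_algebraMap_smul fun _ _ => rfl
  have hbc := CechRes.PullSec.isBaseChange_mu p₁ F hP hY e'
  let ε₃ : Γ(S', W₃.1) := QCoh.Localizing.resR h₃₂ ε₂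
  have hε₃ : ε₃ ∈ nonZeroDivisors Γ(S', W₃.1) :=
    Lib.Ideal.EffCartier.res_mem_nonZeroDivisors W₂.2 h₃₂ hε₂
  have hdvd₃ : algebraMap Γ(S', W₂.1) Γ(S', W₃.1) ε ∣ ε₃ := map_dvd _ hdvd
  let p'' : Ideal Γ(S', W₃.1) := (W₃.2.primeIdealOf ⟨s', hs₃⟩).asIdeal
  obtain ⟨h, hh, k', u, hu₁, hu₂⟩ := hfree' Γ(S', W₃.1) Γ(X', p₂ ⁻¹ᵁ W₃.1) Γ(P, p₂ ⁻¹ᵁ W₃.1)
    _ hbc ε₃ hε₃ hdvd₃ p''
  -- the point over `s'`
  haveI : IsDomain (p''.Fiber Γ(X', p₂ ⁻¹ᵁ W₃.1)) :=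
    Lib.RG.Fibres.isDomain_of_geomIntegral (Rank.geomIntegralFibres p₂ W₃.2) p''.ResidueField
  haveI : Module.Flat Γ(S', W₃.1) Γ(X', p₂ ⁻¹ᵁ W₃.1) :=
    HasRingHomProperty.appLE @Flat p₂ inferInstance W₃ ⟨_, hY⟩ le_rfl
  haveI : (p''.map (algebraMap Γ(S', W₃.1) Γ(X', p₂ ⁻¹ᵁ W₃.1))).IsPrime :=
    H69.Shrink.isPrime_map_of_isDomain_fiber p''
  let qs : PrimeSpectrum Γ(X', p₂ ⁻¹ᵁ W₃.1) :=
    ⟨p''.map (algebraMap Γ(S', W₃.1) Γ(X', p₂ ⁻¹ᵁ W₃.1)), inferInstance⟩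
  let x := hY.fromSpec qs
  have hxY : x ∈ p₂ ⁻¹ᵁ W₃.1 := by
    show x ∈ ((p₂ ⁻¹ᵁ W₃.1 : X'.Opens) : Set X')
    rw [← hY.range_fromSpec]
    exact ⟨qs, rfl⟩
  have hpx : p₂ x = s' := by
    have h1 : PrimeSpectrum.comap (algebraMap Γ(S', W₃.1) Γ(X', p₂ ⁻¹ᵁ W₃.1)) qs =
        W₃.2.primeIdealOf ⟨s', hs₃⟩ := PrimeSpectrum.ext
      (le_antisymm (fun a ha => by_contra fun hap => Main.not_mem_map hap ha) Ideal.le_comap_map)
    refine ((congrArg (fun φ : Spec Γ(X', p₂ ⁻¹ᵁ W₃.1) ⟶ S' => φ qs)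
      (IsAffineOpen.SpecMap_appLE_fromSpec p₂ W₃.2 hY le_rfl)).symm).trans ?_
    show W₃.2.fromSpec (PrimeSpectrum.comap (algebraMap Γ(S', W₃.1) Γ(X', p₂ ⁻¹ᵁ W₃.1)) qs) = s'
    rw [h1, W₃.2.fromSpec_primeIdealOf]
  have hxh : x ∈ X'.basicOpen h := by
    refine (Lib.Ideal.EffCartier.mem_basicOpen_iff_notMem_prime hY hxY h).2 fun hm => hh ?_
    rw [hY.fromSpec.isOpenEmbedding.injective ((hY.fromSpec_primeIdealOf ⟨x, hxY⟩) :
      hY.fromSpec (hY.primeIdealOf ⟨x, hxY⟩) = hY.fromSpec qs)] at hm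
    exact hm
  -- the sections of the strict transform
  let L := CohBasics.Affine.secₗ π (p₂ ⁻¹ᵁ W₃.1)
  have hgen : (BlowUp.exceptional p₁ ((∏ s ∈ t, J s).comap f)).ideal ⟨_, hY⟩ =
      Ideal.span {algebraMap Γ(S', W₃.1) Γ(X', p₂ ⁻¹ᵁ W₃.1) ε₃} := by
    show (((∏ s ∈ t, J s).comap f).comap p₁).ideal ⟨_, hY⟩ = _
    rw [hexc, Lib.Ideal.Comap.ideal_comap p₂ _ W₃ ⟨_, hY⟩ le_rfl,
      Lib.Ideal.EffCartier.ideal_eq_span_of_le h₃₂ hJ₂, Ideal.map_span, Set.image_singleton]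
    rfl
  have hkerL : LinearMap.ker L = _root_.FlatCA.powTorsion Γ(X', p₂ ⁻¹ᵁ W₃.1)
      (algebraMap Γ(S', W₃.1) Γ(X', p₂ ⁻¹ᵁ W₃.1) ε₃) Γ(P, p₂ ⁻¹ᵁ W₃.1) := by
    ext m
    rw [LinearMap.mem_ker, mem_powTorsion]
    refine (hker ⟨_, hY⟩ m).trans (exists_congr fun N => ?_)
    rw [Scheme.IdealSheafData.ideal_pow, Pi.pow_apply, hgen, Ideal.span_singleton_pow]
    refine ⟨fun h => h _ (Ideal.mem_span_singleton_self _), fun h a ha => ?_⟩
    obtain ⟨d, rfl⟩ := Ideal.mem_span_singleton.1 ha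
    rw [mul_comm, mul_smul, h, smul_zero]
  let L' := (Submodule.quotEquivOfEq _ _ hkerL.symm).trans
    (L.quotKerEquivOfSurjective (QCoh.Closure.sections_surjective_of_epi π hY))
  have hv₁ : ∀ y, ∃ t ∈ Submonoid.powers h, t • y ∈ Submodule.span Γ(X', p₂ ⁻¹ᵁ W₃.1) (Set.range (L' ∘ u)) := by
    intro y
    refine ⟨h, Submonoid.mem_powers h, ?_⟩
    have h1 := Submodule.mem_map_of_mem (f := L'.toLinearMap) (hu₁ (L'.symm y))
    rw [Submodule.map_span, ← Set.range_comp] at h1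
    simpa using h1
  have hv₂ : ∀ a : Fin k' → Γ(X', p₂ ⁻¹ᵁ W₃.1), ∑ i, a i • (L' ∘ u) i = 0 →
      ∀ i, ∃ t ∈ Submonoid.powers h, t * a i = 0 := fun a ha i =>
    ⟨h, Submonoid.mem_powers h, hu₂ a (L'.injective (by simpa using ha)) i⟩
  let _ := Modules.ZeroLocus.modBasic h G
  letI : Algebra Γ(X', p₂ ⁻¹ᵁ W₃.1) Γ(X', X'.basicOpen h) :=
    (QCoh.Localizing.resR (X'.basicOpen_le h)).toAlgebra
  haveI : IsScalarTower Γ(X', p₂ ⁻¹ᵁ W₃.1) Γ(X', X'.basicOpen h) Γ(G, X'.basicOpen h) :=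
    IsScalarTower.of_algebraMap_smul fun _ _ => rfl
  haveI : IsLocalization.Away h Γ(X', X'.basicOpen h) := hY.isLocalization_basicOpen h
  haveI := Modules.ZeroLocus.isLocalizedModule_resBasic hY h G
  obtain ⟨hfin, hproj⟩ := finite_projective_localized (Submonoid.powers h) Γ(X', X'.basicOpen h)
    (Modules.ZeroLocus.resBasic h G) (L' ∘ u) hv₁ hv₂
  obtain ⟨O, n, hxO, he⟩ := H81.PushLocFree.exists_free_nhd_of_projective (M := G)
    (hY.basicOpen h) hxh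
  exact ⟨x, O, n, hxO, he, hpx⟩

end Groth.Agent.H25.BlowFree.Global
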