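import Groth.Agent.H25.FittingLoc

/-!
Modules with principal Fitting ideal near a prime.
-/

universe u v

namespace Groth.Agent.H25.BlowFree.NearPrincipal

open Groth.Agent.H25.Fitting

variable {R : Type u} [CommRing R] {M : Type v} [AddCommGroup M] [Module R M]

/-- `Fit_k = (f)` near `p` with `f` regular, and `Fit_j = 0` for `j < k`. -/
structure Near (M : Type v) [AddCommGroup M] [Module R M] [Module.Finite R M] (k : ℕ) (f : R)
    (p : Ideal R) : Prop where
  nzd : f ∈ nonZeroDivisors R
  le : Fitt.ideal R M k ≤ Ideal.span {f}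
  ex : ∃ c ∉ p, f * c ∈ Fitt.ideal R M k
  lt : ∀ j, j + 1 = k → Fitt.ideal R M j = ⊥

theorem exists_minor {n k : ℕ} [Module.Finite R M] (x : Fin n → M)
    (hx : Submodule.span R (Set.range x) = ⊤) (f : R) (hf : Fitt.ideal R M k ≤ Ideal.span {f})
    (p : Ideal R) [p.IsPrime] {c₀ : R} (hc₀ : c₀ ∉ p) (hmem : f * c₀ ∈ Fitt.ideal R M k)
    (hann : ∀ d, f * d = 0 → d ∈ p) :
    ∃ (z : Fin (n - k) → Fin n → R) (e : Fin (n - k) → Fin n) (c : R),
      (∀ b, z b ∈ rel x) ∧ Function.Injective e ∧ minor z e = f * c ∧ c ∉ p := by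
  by_contra hh
  push Not at hh
  have hle : Fitt.ideal R M k ≤ Ideal.span {f} * p := by
    rw [ideal_eq x hx k]
    refine Ideal.span_le.mpr ?_
    rintro d ⟨z, e, hz, rfl⟩
    by_cases he : Function.Injective e
    · obtain ⟨c, hc⟩ := Ideal.mem_span_singleton.mp
        (hf ((ideal_eq x hx k).ge (minor_mem z e hz)))
      exact Ideal.mem_span_singleton_mul.mpr ⟨c, hh z e c hz he hc, hc.symm⟩
    · rw [show (Matrix.of fun a b => z b (e a)).det = 0 from minor_eq_zero_of_not_injective z e he]
      exact zero_mem _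
  obtain ⟨q, hq, hfq⟩ := Ideal.mem_span_singleton_mul.mp
    (hle hmem)
  have h1 : f * (q - c₀) = 0 := by rw [mul_sub, hfq, sub_self]
  exact hc₀ (by simpa using sub_mem hq (hann _ h1))

variable [Module.Finite R M] {k : ℕ} {f : R}

local notation "M'" => LinearMap.ker (f • (LinearMap.id : M →ₗ[R] M))

theorem local_data {p : Ideal R} [p.IsPrime] (h : Near M k f p) {n : ℕ} (x : Fin n → M)
    (hx : Submodule.span R (Set.range x) = ⊤) :
    ∃ (c : R) (z : Fin (n - k) → Fin n → R) (e : Fin (n - k) → Fin n), c ∉ p ∧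
      (∀ b, z b ∈ rel x) ∧ Function.Injective e ∧ minor z e = f * c ∧
      ∀ v ∈ rel x, (∀ a, v (e a) = 0) → ∀ i, c * v i = 0 := by
  classical
  obtain ⟨c₀, hc₀, hmem⟩ := h.ex
  obtain ⟨z, e, c, hz, he, hc, hcp⟩ := exists_minor x hx f h.le p hc₀ hmem
    (fun d hd => by rw [(mul_left_mem_nonZeroDivisors_eq_zero_iff h.nzd).mp hd]; exact zero_mem p)
  refine ⟨c, z, e, hcp, hz, he, hc, fun v hv hve i => ?_⟩
  by_cases hi : i ∈ Set.range e
  · obtain ⟨a, rfl⟩ := hi; rw [hve, mul_zero]
  have hlt : n - k < n := by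
    have : (Finset.univ.image e).card < (Finset.univ : Finset (Fin n)).card :=
      Finset.card_lt_card ⟨Finset.subset_univ _, fun hss => hi (by simpa using hss (Finset.mem_univ i))⟩
    simpa [Finset.card_image_of_injective _ he] using this
  have hm : minor z e * v i ∈ Mn (rel (R := R) x : Set (Fin n → R)) (n - k + 1) :=
    minor_mul_mem z hz e v hv hve i
  obtain ⟨j, rfl⟩ : ∃ j, k = j + 1 := ⟨k - 1, by omega⟩
  have hj : j < n := by
    by_contra hjn
    have h0 := h.lt j rfl
    rw [ideal_eq_top x hx (not_lt.mp hjn)] at h0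
    have : Subsingleton R := subsingleton_of_zero_eq_one
      ((Ideal.mem_bot.mp (h0 ▸ (Submodule.mem_top : (1 : R) ∈ (⊤ : Ideal R)))).symm)
    exact hcp (by rw [Subsingleton.elim c 0]; exact zero_mem p)
  rw [show n - (j + 1) + 1 = n - j by omega, ← ideal_eq x hx j, h.lt j rfl, Ideal.mem_bot, hc,
    mul_assoc] at hm
  exact (mul_left_mem_nonZeroDivisors_eq_zero_iff h.nzd).mp hm

/-- Approximate basis of `M / ker f` near `p`. -/
theorem approx {p : Ideal R} [p.IsPrime] (h : Near M k f p) :
    ∃ c : R, c ∉ p ∧ ∃ g : Fin k → M, (∀ y : M, c • y ∈ Submodule.span R (Set.range g) ⊔ M') ∧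
      ∀ a : Fin k → R, ∑ i, a i • g i ∈ M' → ∀ i, c * a i = 0 := by
  classical
  obtain ⟨n, x, hx⟩ := Module.Finite.exists_fin (R := R) (M := M)
  obtain ⟨c, z, e, hcp, hz, he, hc, hrel⟩ := local_data h x hx
  by_cases hkn : k ≤ n
  · have hcard : (Finset.univ \ Finset.univ.image e).card = k := by
      rw [Finset.card_sdiff, Finset.inter_univ, Finset.card_image_of_injective _ he]
      simp; omega
    let s := (Finset.univ \ Finset.univ.image e).equivFinOfCardEq hcard
    refine ⟨c, hcp, fun i => x (s.symm i), fun y => ?_, fun a ha i => ?_⟩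
    · convert smul_mem_span_sup x hx z hz e f c hc (fun a i => Ideal.mem_span_singleton.mp
        (h.le ((ideal_eq x hx k).ge (minor_mem z _ hz)))) y using 4
      ext m
      constructor
      · rintro ⟨j, rfl⟩
        exact ⟨_, fun ⟨a, ha⟩ => (Finset.mem_sdiff.mp (s.symm j).2).2
          (Finset.mem_image.mpr ⟨a, Finset.mem_univ a, ha⟩), rfl⟩
      · rintro ⟨j, hj, rfl⟩; exact ⟨s ⟨j, by simpa using hj⟩, by simp⟩
    · let v : Fin n → R := fun j => if hj : j ∈ Finset.univ \ Finset.univ.image e then f * a (s ⟨j, hj⟩) else 0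
      have hv : v ∈ rel x := by
        rw [mem_rel, ← Finset.sum_subset (Finset.subset_univ (Finset.univ \ Finset.univ.image e))
          (fun j _ hj => by simp only [v, dif_neg hj, zero_smul]), ← Finset.sum_coe_sort,
          ← s.symm.sum_comp]
        have : f • ∑ i, a i • x (s.symm i) = 0 := ha
        rw [Finset.smul_sum] at this
        refine (Finset.sum_congr rfl fun j _ => ?_).trans this
        simp only [v, dif_pos (s.symm j).2, Subtype.coe_eta, Equiv.apply_symm_apply, mul_smul]
      have := hrel v hv (fun b => by simp [v]) (s.symm i)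
      simp only [v, dif_pos (s.symm i).2, Subtype.coe_eta, Equiv.apply_symm_apply] at this
      rw [mul_left_comm] at this
      exact (mul_left_mem_nonZeroDivisors_eq_zero_iff h.nzd).mp this
  · exfalso
    obtain ⟨j, rfl⟩ : ∃ j, k = j + 1 := ⟨k - 1, by omega⟩
    have h0 := h.lt j rfl
    rw [ideal_eq_top x hx (by omega)] at h0
    have : Subsingleton R := subsingleton_of_zero_eq_one
      ((Ideal.mem_bot.mp (h0 ▸ (Submodule.mem_top : (1 : R) ∈ (⊤ : Ideal R)))).symm)
    exact hcp (by rw [Subsingleton.elim c 0]; exact zero_mem p)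

end Groth.Agent.H25.BlowFree.NearPrincipal
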