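import Groth.Agent.H25.BlowFree.Content
import Groth.Agent.H25.BlowFree.NearPrincipal
import Groth.Agent.H25.FittingFlatten
import Groth.Agent.H69.Shrink.DevBaseChange
import Groth.Agent.Lib.RG.Fibres
import Groth.Agent.S0447

/-!
Making a module free of given rank near the generic points of the fibres by blowing up.
-/

set_option autoImplicit false
set_option linter.style.haveILetI false
universe u

open TensorProduct

namespace Groth.Agent.H25.BlowFree.Main

open Groth.Agent.H25.Fitting Content

/-- A flat, finitely presented algebra with geometrically integral fibres is projective. -/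
theorem projective {R S : Type u} [CommRing R] [CommRing S] [Algebra R S]
    [Algebra.FinitePresentation R S] [Module.Flat R S] (hgi : _root_.FlatCA.GeomIntegralFibres R S) :
    Module.Projective R S := by
  open AlgebraicGeometry CategoryTheory in
  let f := Spec.map (CommRingCat.ofHom (algebraMap R S))
  haveI : AlgebraicGeometry.GeometricallyIntegral f := hgi
  haveI : AlgebraicGeometry.Flat f :=
    (AlgebraicGeometry.HasRingHomProperty.Spec_iff (P := @AlgebraicGeometry.Flat)).2
      (RingHom.flat_algebraMap_iff.2 inferInstance)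
  haveI : AlgebraicGeometry.LocallyOfFinitePresentation f :=
    (AlgebraicGeometry.HasRingHomProperty.Spec_iff
      (P := @AlgebraicGeometry.LocallyOfFinitePresentation)).2
      (RingHom.finitePresentation_algebraMap.2 inferInstance)
  let Γf := f.appTop.hom
  letI := Γf.toAlgebra
  have hP : Module.Projective _ _ := Groth.Agent.S0447.result f
  let eR := (AlgebraicGeometry.Scheme.ΓSpecIso (CommRingCat.of R)).commRingCatIsoToRingEquiv
  let eS := (AlgebraicGeometry.Scheme.ΓSpecIso (CommRingCat.of S)).commRingCatIsoToRingEquiv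
  haveI h1 := RingHomInvPair.of_ringEquiv eR
  haveI := h1.symm
  refine @Module.Projective.of_equiv _ _ _ _ _ _ _ _ _ _ (σ := _) (σ' := _) _ _
    ({ eS.toAddEquiv with map_smul' := fun r x => ?_ } : _ ≃ₛₗ[(eR : _ →+* _)] S) hP
  change eS (Γf r * x) = eR r • eS x
  rw [map_mul, Algebra.smul_def]
  congr 1
  exact CategoryTheory.congr_fun
    (AlgebraicGeometry.Scheme.ΓSpecIso_naturality (CommRingCat.ofHom (algebraMap R S))) r

variable {R S : Type u} [CommRing R] [CommRing S] [Algebra R S]
  [Algebra.FinitePresentation R S] [Module.Flat R S]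

omit [Algebra.FinitePresentation R S] in
theorem fiber_ne_zero {p : Ideal R} [p.IsPrime] {σ : S} (h : σ ∉ p.map (algebraMap R S)) :
    (1 : p.ResidueField) ⊗ₜ[R] σ ≠ (0 : p.Fiber S) :=
  fun h0 => h (H69.Shrink.mem_map_of_fiber_eq_zero p h0)

omit [Algebra.FinitePresentation R S] [Module.Flat R S] in
theorem not_mem_map {p : Ideal R} [p.IsPrime] [IsDomain (p.Fiber S)] {f : R} (hf : f ∉ p) :
    algebraMap R S f ∉ p.map (algebraMap R S) := fun h => by
  let φ : S →ₐ[R] p.Fiber S := Algebra.TensorProduct.includeRight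
  have hle : p.map (algebraMap R S) ≤ RingHom.ker φ.toRingHom := by
    rw [Ideal.map_le_iff_le_comap]
    intro r hr
    show φ (algebraMap R S r) = 0
    rw [AlgHom.commutes, IsScalarTower.algebraMap_apply R p.ResidueField (p.Fiber S),
      Ideal.algebraMap_residueField_eq_zero.2 hr, map_zero]
  have h0 : φ (algebraMap R S f) = 0 := hle h
  rw [AlgHom.commutes, IsScalarTower.algebraMap_apply R p.ResidueField (p.Fiber S)] at h0
  exact hf (Ideal.algebraMap_residueField_eq_zero.1 ((FaithfulSMul.algebraMap_injective _ _)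
    (h0.trans (map_zero _).symm)))

theorem main (hgi : _root_.FlatCA.GeomIntegralFibres R S) (f : R) (r : ℕ)
    (M : Type u) [AddCommGroup M] [Module S M] [Module R M] [IsScalarTower R S M] [Module.Finite S M]
    (hfp : Module.FinitePresentation (Localization.Away (algebraMap R S f))
      (LocalizedModule (Submonoid.powers (algebraMap R S f)) M))
    (hfree : ∀ (p : Ideal R) [p.IsPrime] [(p.map (algebraMap R S)).IsPrime], f ∉ p →
      Module.Free (Localization.AtPrime (p.map (algebraMap R S)))
        (LocalizedModule (p.map (algebraMap R S)).primeCompl M) ∧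
      Module.rank (Localization.AtPrime (p.map (algebraMap R S)))
        (LocalizedModule (p.map (algebraMap R S)).primeCompl M) = r) :
    ∃ I : Ideal R, I.FG ∧ I.radical = (Ideal.span {f}).radical ∧ ∀ a ∈ I,
      ∀ (S' M' : Type u) [CommRing S'] [Algebra S S'] [Algebra (BlowUp.affineAlgebra R I a) S'] [Algebra R S']
        [IsScalarTower R S S'] [IsScalarTower R (BlowUp.affineAlgebra R I a) S']
        [Algebra.IsPushout R S (BlowUp.affineAlgebra R I a) S']
        [AddCommGroup M'] [Module S' M'] [Module S M'] [IsScalarTower S S' M']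
        (φ : M →ₗ[S] M'), IsBaseChange S' φ →
        ∀ (p' : Ideal (BlowUp.affineAlgebra R I a)) [p'.IsPrime],
          ∃ g : S', g ∉ p'.map (algebraMap (BlowUp.affineAlgebra R I a) S') ∧
            Module.Free (Localization.Away g)
              (LocalizedModule (Submonoid.powers g) (M' ⧸ _root_.FlatCA.powTorsion S' (algebraMap R S' a) M')) ∧
            Module.rank (Localization.Away g)
              (LocalizedModule (Submonoid.powers g) (M' ⧸ _root_.FlatCA.powTorsion S' (algebraMap R S' a) M')) = r := by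
  classical
  haveI := projective hgi
  obtain ⟨s, hs'⟩ := Module.projective_def'.1 ‹Module.Projective R S›
  have hs : ∀ z : S, Finsupp.linearCombination R id (s z) = z := fun z => LinearMap.congr_fun hs' z
  haveI hdom : ∀ (p : Ideal R) [p.IsPrime], IsDomain (p.Fiber S) := fun p _ =>
    Lib.RG.Fibres.isDomain_of_geomIntegral hgi p.ResidueField
  set fS := algebraMap R S f with hfS
  obtain ⟨n, x, hx⟩ := Module.Finite.exists_fin (R := S) (M := M)
  obtain ⟨Z, hZfin, hZs, hZpow⟩ := exists_finite_rel_away fS x hx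
  obtain ⟨G, hG⟩ := Mn_fg hZfin (n - r)
  let C : Ideal R := content s (G : Set S)
  -- the Fitting ideal is not contained in the generic points over `D(f)`
  have hgen : ∀ (p : Ideal R) [p.IsPrime], f ∉ p →
      ¬ Mn Z (n - r) ≤ p.map (algebraMap R S) ∧
        ∀ i, i < r → ∀ d ∈ Mn Z (n - i), ∃ t ∉ p, t • d = 0 := by
    intro p _ hfp
    haveI := H69.Shrink.isPrime_map_of_isDomain_fiber (B := S) p
    obtain ⟨hF, hR⟩ := hfree p hfp
    haveI := hF
    haveI : Module.Finite (Localization.AtPrime (p.map (algebraMap R S)))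
        (LocalizedModule (p.map (algebraMap R S)).primeCompl M) :=
      Module.Finite.of_isLocalizedModule (p.map (algebraMap R S)).primeCompl
        (LocalizedModule.mkLinearMap (p.map (algebraMap R S)).primeCompl M)
    have hfr := Module.finrank_eq_of_rank_eq hR
    refine ⟨fun hle => ?_, fun i hi d hd => ?_⟩
    · obtain ⟨σ, hσ, hσF⟩ := exists_mem_ideal_of_span_localized (p.map (algebraMap R S)).primeCompl _
        (Module.finBasisOfFinrankEq _ _ hfr).span_eq
      obtain ⟨N, hN⟩ := exists_pow_mul_mem_Mn fS hZpow ((ideal_eq x hx r).le hσF)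
      exact ((Ideal.IsPrime.mem_or_mem inferInstance (hle hN)).elim
        (fun h => not_mem_map hfp (Ideal.IsPrime.mem_of_pow_mem inferInstance N h)) hσ)
    · obtain ⟨σ, hσ, hσd⟩ := exists_mul_eq_zero_of_free (M := M) (p.map (algebraMap R S)).primeCompl
        (k := i) (by rw [hfr]; exact hi) ((ideal_eq x hx i).ge (Mn_mono hZs _ hd))
      exact exists_smul_eq_zero s hs p (fiber_ne_zero hσ) hσd
  have hfC : f ∈ C.radical := by
    rw [Ideal.radical_eq_sInf, Submodule.mem_sInf]
    rintro (p : Ideal R) ⟨hle, hp⟩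
    by_contra hfp
    have hnot := (hgen p hfp).1
    rw [← hG] at hnot
    obtain ⟨z, hz, hzp⟩ := Set.not_subset.1 (mt Submodule.span_le.2 hnot)
    exact not_content_le s hs hz hzp hle
  have hkill : ∀ i, i + 1 = r → ∀ d ∈ Mn Z (n - i), ∃ N : ℕ, f ^ N • d = 0 := by
    intro i hi d hd
    let A : Ideal R := LinearMap.ker (LinearMap.toSpanSingleton R S d)
    have : f ∈ A.radical := by
      rw [Ideal.radical_eq_sInf, Submodule.mem_sInf]
      rintro (p : Ideal R) ⟨hle, hp⟩
      by_contra hfp
      obtain ⟨t, ht, htd⟩ := (hgen p hfp).2 i (by omega) d hd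
      exact ht (hle (show t ∈ A by simpa [A] using htd))
    obtain ⟨N, hN⟩ := this
    exact ⟨N, by simpa [A] using hN⟩
  refine ⟨Ideal.span {f} * C, (Submodule.fg_span_singleton f).mul
      (content_fg s G.finite_toSet), le_antisymm ?_ ?_, ?_⟩
  · exact Ideal.radical_mono Ideal.mul_le_left
  · rw [Ideal.radical_le_radical_iff, Ideal.span_singleton_le_iff_mem]
    obtain ⟨N, hN⟩ := hfC
    exact ⟨N + 1, by rw [pow_succ']; exact Ideal.mul_mem_mul (Ideal.mem_span_singleton_self f) hN⟩
  intro a ha S' M' _ _ _ _ _ _ hpush _ _ _ _ φ hφ p' _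
  obtain ⟨j, hj, rfl⟩ := Ideal.mem_span_singleton_mul.mp ha
  let R' := ↥(BlowUp.affineAlgebra R (Ideal.span {f} * C) (f * j))
  have e : R' ≃ₐ[R] ↥(BlowUp.affineAlgebra R (Ideal.span {f} * C) (f * j)) := AlgEquiv.refl
  have hb := blowUp_nzd e
  have hnzd : algebraMap R R' f ∈ nonZeroDivisors R' ∧ algebraMap R R' j ∈ nonZeroDivisors R' := by
    rw [← mul_mem_nonZeroDivisors, ← map_mul]; exact hb
  have hCj : C.map (algebraMap R R') = Ideal.span {algebraMap R R' j} := by
    refine le_antisymm (Ideal.map_le_iff_le_comap.mpr fun y hy => ?_)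
      ((Ideal.span_singleton_le_iff_mem _).mpr (Ideal.mem_map_of_mem _ hj))
    have h1 := blowUp_map_le e (Ideal.mem_map_of_mem (algebraMap R R')
      (Ideal.mul_mem_mul (Ideal.mem_span_singleton_self f) hy))
    rw [map_mul, map_mul, Ideal.mem_span_singleton] at h1
    obtain ⟨t, ht⟩ := h1
    rw [Ideal.mem_comap, Ideal.mem_span_singleton]
    exact ⟨t, (mul_cancel_left_mem_nonZeroDivisors hnzd.1).mp (by rw [ht, mul_assoc])⟩
  have hpush' : Algebra.IsPushout R R' S S' := hpush.symm
  have hbc : IsBaseChange R' (IsScalarTower.toAlgHom R S S').toLinearMap := hpush'.out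
  haveI : Module.Flat R' S' := Module.Flat.isBaseChange R R' S S' hbc
  have hreg : ∀ c : R', c ∈ nonZeroDivisors R' → algebraMap R' S' c ∈ nonZeroDivisors S' := fun c hc => by
    rw [mem_nonZeroDivisors_iff_right]
    intro y hy
    refine Module.Flat.isSMulRegular_of_nonZeroDivisors hc (M := S') ?_
    show c • y = c • (0 : S')
    rw [smul_zero, Algebra.smul_def, mul_comm, hy]
  have hnzd' : algebraMap R S' f ∈ nonZeroDivisors S' ∧ algebraMap R S' j ∈ nonZeroDivisors S' := by
    rw [IsScalarTower.algebraMap_apply R R' S' f, IsScalarTower.algebraMap_apply R R' S' j]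
    exact ⟨hreg _ hnzd.1, hreg _ hnzd.2⟩
  set b := algebraMap R S' (f * j) with hbdef
  have hb' : b ∈ nonZeroDivisors S' := by rw [hbdef, map_mul]; exact mul_mem hnzd'.1 hnzd'.2
  -- the prime `p' S'`
  haveI : IsDomain (p'.Fiber S') := by
    haveI := Lib.RG.Fibres.isDomain_of_geomIntegral hgi p'.ResidueField
    exact ((Algebra.TensorProduct.congr (AlgEquiv.refl (R := p'.ResidueField) (A₁ := p'.ResidueField))
      (Algebra.IsPushout.equiv R R' S S').symm).trans
      (Algebra.TensorProduct.cancelBaseChange R R' p'.ResidueField p'.ResidueField S)).toMulEquiv.isDomain _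
  haveI hq' := H69.Shrink.isPrime_map_of_isDomain_fiber (B := S') p'
  set q' := p'.map (algebraMap R' S') with hq'def
  obtain ⟨hdvd, z₀, hz₀, w, hw, hzw⟩ := exists_cofactor s hbc hs hCj hnzd.2 p'
  -- the finitely presented cover of `M`
  let xN : Fin n → (Fin n → S) ⧸ Submodule.span S Z := fun i =>
    Submodule.Quotient.mk (Pi.single i 1)
  have hsum : ∀ v : Fin n → S, ∑ i, v i • xN i = Submodule.Quotient.mk v := by
    intro v
    conv_rhs => rw [pi_eq_sum_univ' v]
    rw [← Submodule.mkQ_apply, map_sum]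
    simp [xN]
  have hxN : Submodule.span S (Set.range xN) = ⊤ := by
    rw [eq_top_iff]
    intro y _
    obtain ⟨v, rfl⟩ := (Submodule.span S Z).mkQ_surjective y
    exact (Submodule.mem_span_range_iff_exists_fun S).mpr ⟨v, hsum v⟩
  have hrN : rel (R := S) xN = Submodule.span S Z := by
    ext v
    rw [mem_rel, hsum, Submodule.Quotient.mk_eq_zero]
  let N₁ := S' ⊗[S] ((Fin n → S) ⧸ Submodule.span S Z)
  let β := algebraMap R S' j
  have hN : NearPrincipal.Near N₁ r β q' := by
    refine ⟨hnzd'.2, ?_, ⟨w, hw, ?_⟩, fun i hi => ?_⟩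
    · rw [ideal_baseChange, ideal_eq_of_rel xN hxN Z hrN r, ← hG, Ideal.map_span, Ideal.span_le]
      rintro _ ⟨z, hz, rfl⟩
      exact Ideal.mem_span_singleton.2 (hdvd z hz)
    · rw [ideal_baseChange, ideal_eq_of_rel xN hxN Z hrN r, ← hzw]
      exact Ideal.mem_map_of_mem _ (hG.le (Submodule.subset_span hz₀))
    · rw [ideal_baseChange, ideal_eq_of_rel xN hxN Z hrN i, eq_bot_iff, Ideal.map_le_iff_le_comap]
      intro d hd
      obtain ⟨N, hN⟩ := hkill i hi d hd
      have h := congrArg (algebraMap S S') hN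
      rw [Algebra.smul_def, map_mul, map_zero, ← IsScalarTower.algebraMap_apply R S S', map_pow] at h
      exact Ideal.mem_bot.2 ((mul_left_mem_nonZeroDivisors_eq_zero_iff (pow_mem hnzd'.1 N)).1 h)
  obtain ⟨c, hc, g, hg1, hg2⟩ := NearPrincipal.approx hN
  let T := _root_.FlatCA.powTorsion S' b M'
  let π0 : ((Fin n → S) ⧸ Submodule.span S Z) →ₗ[S] M :=
    (Submodule.span S Z).liftQ (Fintype.linearCombination S x) (Submodule.span_le.mpr hZs)
  have hπ0 : Function.Surjective π0 := fun y => by
    obtain ⟨v, hv⟩ := (Submodule.mem_span_range_iff_exists_fun S).mp (hx ▸ Submodule.mem_top : y ∈ _)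
    exact ⟨Submodule.Quotient.mk v, hv⟩
  let q : N₁ →ₗ[S'] M' := hφ.equiv.toLinearMap ∘ₗ π0.baseChange S'
  have hq : Function.Surjective q := hφ.equiv.surjective.comp (LinearMap.lTensor_surjective S' hπ0)
  haveI : Module.Finite S' M' := Module.Finite.of_surjective q hq
  have hex := lTensor_exact S' (LinearMap.exact_subtype_ker_map π0) hπ0
  -- the kernel of `q` is `b`-torsion
  have hkq : ∀ y, q y = 0 → ∃ N : ℕ, b ^ N • y = 0 := by
    intro y hy
    have hy' : π0.lTensor S' y = 0 := hφ.equiv.injective (hy.trans (map_zero _).symm)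
    obtain ⟨t, rfl⟩ := (hex y).mp hy'
    clear hy hy'
    induction t using TensorProduct.induction_on with
    | zero => exact ⟨0, by simp⟩
    | add t t' hs ht =>
      obtain ⟨N, hN⟩ := hs
      obtain ⟨N', hN'⟩ := ht
      refine ⟨N + N', ?_⟩
      rw [map_add, smul_add, pow_add, mul_smul, mul_smul, hN', smul_zero, add_zero, smul_comm, hN,
        smul_zero]
    | tmul t v =>
      obtain ⟨v', hv'⟩ := (Submodule.span S Z).mkQ_surjective v.1
      have hv0 : v' ∈ rel (R := S) x := by
        have := v.2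
        rw [← hv'] at this
        exact this
      obtain ⟨N, hN⟩ := hZpow v' hv0
      refine ⟨N, ?_⟩
      have : fS ^ N • (v : (Fin n → S) ⧸ Submodule.span S Z) = 0 := by
        rw [← hv', Submodule.mkQ_apply, ← Submodule.Quotient.mk_smul, Submodule.Quotient.mk_eq_zero]
        exact hN
      rw [LinearMap.lTensor_tmul, Submodule.subtype_apply, hbdef, map_mul, mul_pow,
        mul_comm, mul_smul, IsScalarTower.algebraMap_apply R S S' f, ← map_pow (algebraMap S S'),
        algebraMap_smul, ← tmul_smul, this, tmul_zero, smul_zero]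
  -- `b`-torsion dies in the free quotient
  have htor : ∀ (y : N₁) (N : ℕ), b ^ N • y = 0 → β • (c * c) • y = 0 := by
    intro y N hy
    obtain ⟨u, hu, m, hm, hum⟩ := Submodule.mem_sup.1 (hg1 y)
    obtain ⟨α, rfl⟩ := (Submodule.mem_span_range_iff_exists_fun S').1 hu
    have hm' : β • m = 0 := hm
    have h0 : ∑ i, (b ^ N * α i) • g i ∈ LinearMap.ker (β • (LinearMap.id : N₁ →ₗ[S'] N₁)) := by
      show β • ∑ i, (b ^ N * α i) • g i = 0
      simp_rw [mul_smul (b ^ N)]
      rw [← Finset.smul_sum, eq_sub_of_add_eq hum, smul_sub, smul_sub, smul_comm (b ^ N) c, hy,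
        smul_zero, smul_zero, smul_comm β (b ^ N) m, hm', smul_zero, sub_zero]
    have hα : ∀ i, c * α i = 0 := fun i => by
      have := hg2 _ h0 i
      rw [mul_left_comm] at this
      exact (mul_left_mem_nonZeroDivisors_eq_zero_iff (pow_mem hb' N)).1 this
    rw [mul_smul, ← hum, smul_add, Finset.smul_sum]
    simp_rw [← mul_smul, hα, zero_smul]
    rw [Finset.sum_const_zero, zero_add, ← mul_smul, mul_comm, mul_smul, hm', smul_zero]
  have hker : ∀ y : N₁, T.mkQ (q y) = 0 → β • (c * c) • y = 0 := by
    intro y hy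
    rw [Submodule.mkQ_apply, Submodule.Quotient.mk_eq_zero] at hy
    obtain ⟨N, hN⟩ := (Submodule.mem_iSup_of_directed _
      (Monotone.directed_le fun m m' hmm z hz => by
        rw [Submodule.mem_torsionBy_iff] at hz ⊢
        rw [← Nat.sub_add_cancel hmm, pow_add, mul_smul, hz, smul_zero])).mp hy
    obtain ⟨N', hN'⟩ := hkq (b ^ N • y) (by rw [map_smul]; exact hN)
    exact htor y (N' + N) (by rw [pow_add, mul_smul, hN'])
  have hker' : ∀ y : N₁, β • y = 0 → T.mkQ (q y) = 0 := by
    intro y hy
    rw [Submodule.mkQ_apply, Submodule.Quotient.mk_eq_zero]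
    refine ker_le_powTorsion b ?_
    show b • q y = 0
    rw [← map_smul, hbdef, map_mul, mul_smul, show algebraMap R S' j • y = 0 from hy, smul_zero, map_zero]
  have hcp : c * c * c ∉ q' := fun h =>
    (hq'.mem_or_mem h).elim (fun h => (hq'.mem_or_mem h).elim hc hc) hc
  refine ⟨c * c * c, hcp, ?_⟩
  have hspan : ∀ y : M' ⧸ T, (c * c * c) • y ∈ Submodule.span S' (Set.range (T.mkQ ∘ q ∘ g)) := by
    intro y
    obtain ⟨y, rfl⟩ := T.mkQ_surjective y
    obtain ⟨y, rfl⟩ := hq y
    obtain ⟨u, hu, m, hm, hum⟩ := Submodule.mem_sup.1 (hg1 y)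
    rw [mul_smul, mul_smul]
    refine Submodule.smul_mem _ _ (Submodule.smul_mem _ _ ?_)
    rw [← map_smul, ← map_smul, ← hum, map_add, map_add, hker' m hm, add_zero]
    have := Submodule.mem_map_of_mem (f := T.mkQ ∘ₗ q) hu
    rw [Submodule.map_span, ← Set.range_comp] at this
    exact this
  have hind : ∀ α : Fin r → S', ∑ i, α i • (T.mkQ ∘ q ∘ g) i = 0 → ∀ i, c * c * c * α i = 0 := by
    intro α hα i
    have h0 : T.mkQ (q (∑ k, α k • g k)) = 0 := by
      rw [map_sum, map_sum]; simpa using hα
    have h1 := hg2 (fun k => c * c * α k) (by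
      show β • ∑ k, (c * c * α k) • g k = 0
      simp_rw [mul_smul (c * c)]
      rw [← Finset.smul_sum]
      exact hker _ h0) i
    linear_combination h1
  obtain ⟨hfr, hrk⟩ := free_away q' (c * c * c) hcp (T.mkQ ∘ q ∘ g) hspan hind
  haveI : Module.Finite (Localization.Away (c * c * c))
      (LocalizedModule (Submonoid.powers (c * c * c)) (M' ⧸ T)) :=
    Module.Finite.of_isLocalizedModule (Submonoid.powers (c * c * c))
      (LocalizedModule.mkLinearMap (Submonoid.powers (c * c * c)) (M' ⧸ T))
  refine ⟨hfr, ?_⟩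
  haveI : Nontrivial (Localization.Away (c * c * c)) := by
    rw [nontrivial_iff]
    refine ⟨1, 0, fun h => ?_⟩
    obtain ⟨⟨_, l, rfl⟩, hl⟩ := (IsLocalization.map_eq_zero_iff (Submonoid.powers (c * c * c))
      (Localization.Away (c * c * c)) (1 : S')).mp (by rw [map_one, h])
    rw [mul_one] at hl
    exact hcp (hq'.mem_of_pow_mem l (by rw [show (c * c * c) ^ l = 0 from hl]; exact zero_mem q'))
  rw [← Module.finrank_eq_rank, hrk]

end Groth.Agent.H25.BlowFree.Main
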