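import Groth.Agent.S1205
import Groth.Agent.H25.BlowFree.General
import Groth.Agent.Lib.Modules.AffineSections
import Groth.Agent.Lib.CohBasics.Affine
import Groth.Agent.Lib.Modules.ZeroLocus
import Groth.Agent.H19.FlatLocus.Scheme
import Groth.Agent.H81.PushLocFree
import Groth.Prelude.Def_CohB1
import Mathlib.AlgebraicGeometry.Fiber

/-!
The ranks near the generic points of the fibres over an open set.
-/

set_option autoImplicit false
set_option linter.style.haveILetI false
universe u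

open CategoryTheory CategoryTheory.Limits AlgebraicGeometry Opposite TopologicalSpace
open Groth.Agent.Lib

namespace Groth.Agent.H25.BlowFree.Rank

open Groth.Agent.H25.Fitting

section Algebra

variable {R S : Type u} [CommRing R] [CommRing S] [Algebra R S]
  [Algebra.FinitePresentation R S] [Module.Flat R S]

omit [Algebra.FinitePresentation R S] [Module.Flat R S] in
/-- A spanning and independent family up to a submonoid gives freeness of that rank. -/
theorem free_localized {M : Type u} [AddCommGroup M] [Module S M] (T : Submonoid S)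
    [Nontrivial (Localization T)] {k : ℕ} (u : Fin k → M)
    (hs : ∀ y : M, ∃ t ∈ T, t • y ∈ Submodule.span S (Set.range u))
    (hi : ∀ a : Fin k → S, ∑ i, a i • u i = 0 → ∀ i, ∃ t ∈ T, t * a i = 0) :
    Module.Free (Localization T) (LocalizedModule T M) ∧
      Module.rank (Localization T) (LocalizedModule T M) = k := by
  let b := Module.Basis.mk (linearIndependent_localized T u hi) (span_localized T u hs).ge
  exact ⟨Module.Free.of_basis b, by rw [rank_eq_card_basis b, Fintype.card_fin]⟩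

/-- Flatness at the generic point of a fibre gives freeness at the generic points of the nearby
fibres. -/
theorem exists_free_nhd (hgi : _root_.FlatCA.GeomIntegralFibres R S) (f : R)
    (M : Type u) [AddCommGroup M] [Module S M] [Module R M] [IsScalarTower R S M] [Module.Finite S M]
    (hfp : Module.FinitePresentation (Localization.Away (algebraMap R S f))
      (LocalizedModule (Submonoid.powers (algebraMap R S f)) M))
    (p : Ideal R) [p.IsPrime] [(p.map (algebraMap R S)).IsPrime] (hf : f ∉ p)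
    (hfl : _root_.FlatCA.FlatAt R (p.map (algebraMap R S)) M) :
    ∃ g ∉ p, ∃ r : ℕ, ∀ (P : Ideal R) [P.IsPrime] [(P.map (algebraMap R S)).IsPrime],
      g ∉ P → Module.Free (Localization.AtPrime (P.map (algebraMap R S)))
          (LocalizedModule (P.map (algebraMap R S)).primeCompl M) ∧
        Module.rank (Localization.AtPrime (P.map (algebraMap R S)))
          (LocalizedModule (P.map (algebraMap R S)).primeCompl M) = r := by
  classical
  haveI hdom : ∀ (p : Ideal R) [p.IsPrime], IsDomain (p.Fiber S) := fun p _ =>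
    Lib.RG.Fibres.isDomain_of_geomIntegral hgi p.ResidueField
  set fS := algebraMap R S f with hfS
  obtain ⟨n, x, hx⟩ := Module.Finite.exists_fin (R := S) (M := M)
  obtain ⟨Z, hZfin, hZs, hZpow⟩ := exists_finite_rel_away fS x hx
  let N := (Fin n → S) ⧸ Submodule.span S Z
  haveI : Module.FinitePresentation S N :=
    Module.finitePresentation_of_surjective _ (Submodule.span S Z).mkQ_surjective
      (by rw [Submodule.ker_mkQ]; exact Submodule.fg_span hZfin)
  let π : N →ₗ[S] M :=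
    (Submodule.span S Z).liftQ (Fintype.linearCombination S x) (Submodule.span_le.mpr hZs)
  have hπ : Function.Surjective π := fun y => by
    obtain ⟨v, hv⟩ := (Submodule.mem_span_range_iff_exists_fun S).mp (hx ▸ Submodule.mem_top : y ∈ _)
    exact ⟨Submodule.Quotient.mk v, hv⟩
  have hker : ∀ z, π z = 0 → ∃ m : ℕ, fS ^ m • z = 0 := by
    intro z hz
    obtain ⟨v, rfl⟩ := (Submodule.span S Z).mkQ_surjective z
    obtain ⟨m, hm⟩ := hZpow v hz
    exact ⟨m, by rw [← map_smul, Submodule.mkQ_apply, Submodule.Quotient.mk_eq_zero]; exact hm⟩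
  set q := p.map (algebraMap R S) with hq
  have hfq : fS ∉ q := Main.not_mem_map hf
  haveI : q.LiesOver p :=
    ⟨le_antisymm Ideal.le_comap_map fun a ha => by_contra fun hap => Main.not_mem_map hap ha⟩
  have hflN : _root_.FlatCA.FlatAt R q N := by
    have hb : Function.Bijective (LocalizedModule.map q.primeCompl π) :=
      ⟨Lib.RG.Induct.injective_map_of_killed q π fun z hz => by
          obtain ⟨m, hm⟩ := hker z hz
          exact ⟨fS ^ m, fun h => hfq (Ideal.IsPrime.mem_of_pow_mem inferInstance m h), hm⟩,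
        Lib.RG.Induct.surjective_map_of_killed q π fun y => by
          obtain ⟨z, hz⟩ := hπ y
          exact ⟨1, q.primeCompl.one_mem, z, by rw [one_smul, hz]⟩⟩
    haveI : Module.Flat R (LocalizedModule q.primeCompl M) := hfl
    exact Module.Flat.of_linearEquiv ((LinearEquiv.ofBijective _ hb).restrictScalars R)
  obtain ⟨⟨r, α, hα⟩, htfae⟩ := Groth.Agent.S1205.result hgi p q N
  have h04 := (htfae r α hα).out 0 4
  have hbij := (h04.1 hflN).1
  obtain ⟨h, hh, hdiv⟩ := exists_bijective_map_powers q.primeCompl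
    (LocalizedModule.mkLinearMap q.primeCompl (Fin r → S))
    (LocalizedModule.mkLinearMap q.primeCompl N) α hbij
  have hb := hdiv h dvd_rfl
  have hsurj : ∀ z : N, ∃ m : ℕ, h ^ m • z ∈ LinearMap.range α := fun z => by
    obtain ⟨w, hw⟩ := hb.2 (LocalizedModule.mkLinearMap (Submonoid.powers h) N z)
    induction w using LocalizedModule.induction_on with
    | h v t =>
      rw [LocalizedModule.map_mk, LocalizedModule.mkLinearMap_apply, LocalizedModule.mk_eq] at hw
      obtain ⟨⟨_, m, rfl⟩, hc⟩ := hw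
      obtain ⟨_, l, rfl⟩ := t
      simp only [Submonoid.smul_def, one_smul, smul_smul, ← pow_add] at hc
      exact ⟨m + l, h ^ m • v, by rw [map_smul, hc]⟩
  have hinj : ∀ v, α v = 0 → ∃ m : ℕ, h ^ m • v = 0 := fun v hv => by
    have h0 : LocalizedModule.mk v (1 : Submonoid.powers h) = 0 := hb.1 (by
      rw [LocalizedModule.map_mk, map_zero, hv, LocalizedModule.zero_mk])
    rw [← LocalizedModule.zero_mk (1 : Submonoid.powers h), LocalizedModule.mk_eq] at h0
    obtain ⟨⟨_, m, rfl⟩, hc⟩ := h0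
    exact ⟨m, by simpa [Submonoid.smul_def] using hc⟩
  let e : Fin r → (Fin r → S) := fun i => Pi.single i 1
  -- the image of `D(h)` is open
  have hop := PrimeSpectrum.isOpenMap_comap_of_hasGoingDown_of_finitePresentation (R := R) (S := S)
  obtain ⟨_, ⟨_, ⟨g, rfl⟩, rfl⟩, hpg, hsub⟩ := PrimeSpectrum.isBasis_basic_opens.exists_subset_of_mem_open
    (show (⟨p, inferInstance⟩ : PrimeSpectrum R) ∈
      PrimeSpectrum.comap (algebraMap R S) '' (PrimeSpectrum.basicOpen h : Set _) from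
        ⟨⟨q, inferInstance⟩, hh, PrimeSpectrum.ext (q.over_def p).symm⟩)
    (hop _ (PrimeSpectrum.basicOpen h).2)
  refine ⟨g * f, fun hm => (‹p.IsPrime›.mem_or_mem hm).elim hpg hf, r, fun P _ _ hgP => ?_⟩
  obtain ⟨Q, hhQ, hQP⟩ := hsub (show (⟨P, inferInstance⟩ : PrimeSpectrum R) ∈
    (PrimeSpectrum.basicOpen g : Set _) from fun hg => hgP (P.mul_mem_right f hg))
  have hhP : h ∉ P.map (algebraMap R S) := fun hm => hhQ ((Ideal.map_le_iff_le_comap.2
    (show P ≤ Q.asIdeal.comap (algebraMap R S) from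
      (congrArg PrimeSpectrum.asIdeal hQP).ge)) hm)
  have hfP : fS ∉ P.map (algebraMap R S) := Main.not_mem_map fun hf' => hgP (P.mul_mem_left g hf')
  refine free_localized _ (fun i => π (α (e i))) (fun y => ?_) fun a ha i => ?_
  · obtain ⟨z, rfl⟩ := hπ y
    obtain ⟨m, v, hv⟩ := hsurj z
    refine ⟨h ^ m, fun hm => hhP (Ideal.IsPrime.mem_of_pow_mem inferInstance m hm), ?_⟩
    rw [← map_smul, ← hv, pi_eq_sum_univ' v, map_sum, map_sum]
    exact sum_mem fun i _ => by
      rw [map_smul, map_smul]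
      exact Submodule.smul_mem _ _ (Submodule.subset_span ⟨i, rfl⟩)
  · have h0 : π (α a) = 0 := by
      rw [pi_eq_sum_univ' a, map_sum, map_sum]
      simpa using ha
    obtain ⟨m, hm⟩ := hker _ h0
    obtain ⟨l, hl⟩ := hinj (fS ^ m • a) (by rw [map_smul, hm])
    refine ⟨h ^ l * fS ^ m, fun hm' => ?_, ?_⟩
    · rcases Ideal.IsPrime.mem_or_mem inferInstance hm' with h' | h'
      · exact hhP (Ideal.IsPrime.mem_of_pow_mem inferInstance l h')
      · exact hfP (Ideal.IsPrime.mem_of_pow_mem inferInstance m h')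
    · simpa [mul_assoc] using congrFun hl i

end Algebra

section Sheaf

variable {X S : Scheme.{u}}

/-- Finite presentation of sections over an affine inside an open where the module is finitely
presented. -/
theorem fp_sections_le (F : X.Modules) [F.IsQuasicoherent] (O : X.Opens)
    (hfp : CohB1.IsFP ((Scheme.Modules.pullback O.ι).obj F)) {D : X.Opens} (hD : IsAffineOpen D)
    (hle : D ≤ O) : Module.FinitePresentation Γ(X, D) Γ(F, D) := by
  have e := (Scheme.Modules.restrictFunctorIsoPullback O.ι).app F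
  have := QCoh.Pullback.isQCoh_pullback O.ι F
  haveI hq : (F.restrict O.ι).IsQuasicoherent :=
    (SheafOfModules.isQuasicoherent (R := (O : Scheme.{u}).ringCatSheaf)).prop_of_iso e.symm this
  have hf : CohB1.IsFP (F.restrict O.ι) :=
    (SheafOfModules.isFinitePresentation (R := (O : Scheme.{u}).ringCatSheaf)).prop_of_iso e.symm hfp
  have hD' : IsAffineOpen (O.ι ⁻¹ᵁ D) :=
    hD.preimage_of_isOpenImmersion O.ι (by rwa [Scheme.Opens.opensRange_ι])
  have h := Modules.AffineSections.finitePresentation_sections hf hD'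
  have key : ∀ D' : X.Opens, D' = D → Module.FinitePresentation Γ(X, D') Γ(F, D') →
      Module.FinitePresentation Γ(X, D) Γ(F, D) := by
    rintro D' rfl h; exact h
  refine key (O.ι ''ᵁ (O.ι ⁻¹ᵁ D)) ?_ ?_
  · rw [Scheme.Hom.image_preimage_eq_opensRange_inf, Scheme.Opens.opensRange_ι, inf_eq_right.2 hle]
  refine @Flat55.QCohFP.finitePresentation_congr Γ(X, O.ι ''ᵁ (O.ι ⁻¹ᵁ D)) Γ(F, O.ι ''ᵁ (O.ι ⁻¹ᵁ D))
    _ _ _ _ (fun r m ↦ ?_) h
  change r • m = (O.ι.appIso _).inv r • m
  rw [Scheme.Opens.ι_appIso]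
  rfl

/-- Finite presentation of sections over a basic open as localized module. -/
theorem fp_localized (F : X.Modules) [F.IsQuasicoherent] {D : X.Opens} (hD : IsAffineOpen D)
    (a : Γ(X, D)) (h : Module.FinitePresentation Γ(X, X.basicOpen a) Γ(F, X.basicOpen a)) :
    Module.FinitePresentation (Localization.Away a) (LocalizedModule (Submonoid.powers a) Γ(F, D)) := by
  let _ := Modules.ZeroLocus.modBasic a F
  letI : Algebra Γ(X, D) Γ(X, X.basicOpen a) := (QCoh.Localizing.resR (X.basicOpen_le a)).toAlgebra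
  haveI : IsScalarTower Γ(X, D) Γ(X, X.basicOpen a) Γ(F, X.basicOpen a) :=
    IsScalarTower.of_algebraMap_smul fun _ _ => rfl
  haveI : IsLocalization.Away a Γ(X, X.basicOpen a) := hD.isLocalization_basicOpen a
  haveI := Modules.ZeroLocus.isLocalizedModule_resBasic hD a F
  let l := Modules.ZeroLocus.resBasic a F
  let e : Γ(X, X.basicOpen a) ≃ₐ[Γ(X, D)] Localization.Away a :=
    IsLocalization.algEquiv (Submonoid.powers a) _ _
  letI : Algebra Γ(X, X.basicOpen a) (Localization.Away a) := e.toRingEquiv.toRingHom.toAlgebra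
  haveI : IsScalarTower Γ(X, D) Γ(X, X.basicOpen a) (Localization.Away a) :=
    IsScalarTower.of_algebraMap_eq fun r => (e.commutes r).symm
  let N := LocalizedModule (Submonoid.powers a) Γ(F, D)
  letI : Module Γ(X, X.basicOpen a) N :=
    Module.compHom N (algebraMap Γ(X, X.basicOpen a) (Localization.Away a))
  haveI : IsScalarTower Γ(X, X.basicOpen a) (Localization.Away a) N :=
    IsScalarTower.of_algebraMap_smul fun _ _ => rfl
  haveI : IsScalarTower Γ(X, D) Γ(X, X.basicOpen a) N := IsScalarTower.of_algebraMap_smul fun r m => by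
    show e (algebraMap Γ(X, D) Γ(X, X.basicOpen a) r) • m = r • m
    rw [e.commutes, algebraMap_smul]
  let φ : Γ(F, X.basicOpen a) →ₗ[Γ(X, X.basicOpen a)] N :=
    LinearMap.extendScalarsOfIsLocalization (Submonoid.powers a) _
      (IsLocalizedModule.iso (Submonoid.powers a) l).symm.toLinearMap
  have h1 : IsBaseChange Γ(X, X.basicOpen a) l := IsLocalizedModule.isBaseChange (Submonoid.powers a) _ _
  have h2 : IsBaseChange (Localization.Away a) (φ.restrictScalars Γ(X, D) ∘ₗ l) := by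
    have : φ.restrictScalars Γ(X, D) ∘ₗ l = LocalizedModule.mkLinearMap (Submonoid.powers a) Γ(F, D) :=
      LinearMap.ext fun m => (IsLocalizedModule.iso_symm_apply' (Submonoid.powers a) l (l m) m 1
        (one_smul _ _)).trans rfl
    rw [this]
    exact IsLocalizedModule.isBaseChange (Submonoid.powers a) _ _
  exact FinitePresentation.of_isBaseChange φ (h1.of_comp h2)

variable (f : X ⟶ S) [IsAffineHom f] [LocallyOfFinitePresentation f] [Flat f] [GeometricallyIntegral f]

omit [LocallyOfFinitePresentation f] [Flat f] in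
theorem geomIntegralFibres {W : S.Opens} (hW : IsAffineOpen W) :
    letI := (f.appLE W (f ⁻¹ᵁ W) le_rfl).hom.toAlgebra
    _root_.FlatCA.GeomIntegralFibres Γ(S, W) Γ(X, f ⁻¹ᵁ W) := by
  letI := (f.appLE W (f ⁻¹ᵁ W) le_rfl).hom.toAlgebra
  have h : GeometricallyIntegral (Spec.map (f.app W)) :=
    MorphismProperty.of_isPullback (H81.PushLocFree.isPullback_fromSpec f hW) ‹_›
  rw [Scheme.Hom.app_eq_appLE] at h
  exact h

/-- The data on the ranks over an affine open. -/
theorem exists_rank_data [QuasiSeparatedSpace S] (U : S.Opens) (hU : IsCompact (U : Set S))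
    (F : X.Modules) [F.IsQuasicoherent] [SheafOfModules.IsFiniteType (R := X.ringCatSheaf) F]
    (hfpU : CohB1.IsFP ((Scheme.Modules.pullback (f ⁻¹ᵁ U).ι).obj F))
    (hflU : ∀ x : X, f.base x ∈ U →
      closure ({f.asFiber x} : Set (f.fiber (f.base x))) = Set.univ → FlatMod.IsFlatOverAt f F x)
    {W : S.Opens} (hW : IsAffineOpen W) :
    letI := (f.appLE W (f ⁻¹ᵁ W) le_rfl).hom.toAlgebra
    ∃ (k : ℕ) (g : Fin k → Γ(S, W)) (r : Fin k → ℕ),
      ((W ⊓ U : S.Opens) : Set S) = ⋃ i, (S.basicOpen (g i) : Set S) ∧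
      (∀ i, Module.FinitePresentation (Localization.Away (algebraMap Γ(S, W) Γ(X, f ⁻¹ᵁ W) (g i)))
        (LocalizedModule (Submonoid.powers (algebraMap Γ(S, W) Γ(X, f ⁻¹ᵁ W) (g i))) Γ(F, f ⁻¹ᵁ W))) ∧
      ∀ i, ∀ (p : Ideal Γ(S, W)) [p.IsPrime] [(p.map (algebraMap Γ(S, W) Γ(X, f ⁻¹ᵁ W))).IsPrime],
        g i ∉ p →
          Module.Free (Localization.AtPrime (p.map (algebraMap Γ(S, W) Γ(X, f ⁻¹ᵁ W))))
            (LocalizedModule (p.map (algebraMap Γ(S, W) Γ(X, f ⁻¹ᵁ W))).primeCompl Γ(F, f ⁻¹ᵁ W)) ∧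
          Module.rank (Localization.AtPrime (p.map (algebraMap Γ(S, W) Γ(X, f ⁻¹ᵁ W))))
            (LocalizedModule (p.map (algebraMap Γ(S, W) Γ(X, f ⁻¹ᵁ W))).primeCompl Γ(F, f ⁻¹ᵁ W))
              = r i := by
  classical
  have hP := hW.preimage f
  letI : Algebra Γ(S, W) Γ(X, f ⁻¹ᵁ W) := (f.appLE W (f ⁻¹ᵁ W) le_rfl).hom.toAlgebra
  letI : Module Γ(S, W) Γ(F, f ⁻¹ᵁ W) := Module.compHom _ (f.appLE W (f ⁻¹ᵁ W) le_rfl).hom
  haveI : IsScalarTower Γ(S, W) Γ(X, f ⁻¹ᵁ W) Γ(F, f ⁻¹ᵁ W) :=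
    IsScalarTower.of_algebraMap_smul fun _ _ => rfl
  haveI : Algebra.FinitePresentation Γ(S, W) Γ(X, f ⁻¹ᵁ W) :=
    HasRingHomProperty.appLE @LocallyOfFinitePresentation f inferInstance ⟨W, hW⟩ ⟨_, hP⟩ le_rfl
  haveI : Module.Flat Γ(S, W) Γ(X, f ⁻¹ᵁ W) :=
    HasRingHomProperty.appLE @Flat f inferInstance ⟨W, hW⟩ ⟨_, hP⟩ le_rfl
  haveI : Module.Finite Γ(X, f ⁻¹ᵁ W) Γ(F, f ⁻¹ᵁ W) := Lib.CohBasics.Affine.finite_sections hP
  have hgi := geomIntegralFibres f hW
  have hfp : ∀ g : Γ(S, W), S.basicOpen g ≤ U →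
      Module.FinitePresentation (Localization.Away (algebraMap Γ(S, W) Γ(X, f ⁻¹ᵁ W) g))
        (LocalizedModule (Submonoid.powers (algebraMap Γ(S, W) Γ(X, f ⁻¹ᵁ W) g)) Γ(F, f ⁻¹ᵁ W)) := by
    intro g hg
    refine fp_localized F hP _ (fp_sections_le F _ hfpU (hP.basicOpen _) ?_)
    show X.basicOpen (f.appLE W (f ⁻¹ᵁ W) le_rfl g) ≤ _
    rw [← Scheme.Hom.app_eq_appLE, ← Scheme.Hom.preimage_basicOpen]
    exact f.preimage_mono hg
  have hloc : ∀ s : ↥(W ⊓ U), ∃ (g : Γ(S, W)) (r : ℕ), (s : S) ∈ S.basicOpen g ∧ S.basicOpen g ≤ U ∧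
      ∀ (p : Ideal Γ(S, W)) [p.IsPrime] [(p.map (algebraMap Γ(S, W) Γ(X, f ⁻¹ᵁ W))).IsPrime],
        g ∉ p →
          Module.Free (Localization.AtPrime (p.map (algebraMap Γ(S, W) Γ(X, f ⁻¹ᵁ W))))
            (LocalizedModule (p.map (algebraMap Γ(S, W) Γ(X, f ⁻¹ᵁ W))).primeCompl Γ(F, f ⁻¹ᵁ W)) ∧
          Module.rank (Localization.AtPrime (p.map (algebraMap Γ(S, W) Γ(X, f ⁻¹ᵁ W))))
            (LocalizedModule (p.map (algebraMap Γ(S, W) Γ(X, f ⁻¹ᵁ W))).primeCompl Γ(F, f ⁻¹ᵁ W))
              = r := by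
    rintro ⟨s, hsW, hsU⟩
    obtain ⟨g₀, hg₀U, hsg₀⟩ := hW.exists_basicOpen_le (⟨s, hsU⟩ : U) hsW
    let p := (hW.primeIdealOf ⟨s, hsW⟩).asIdeal
    have hg₀p : g₀ ∉ p := (Lib.Ideal.EffCartier.mem_basicOpen_iff_notMem_prime hW hsW g₀).1 hsg₀
    haveI hdom : IsDomain (p.Fiber Γ(X, f ⁻¹ᵁ W)) :=
      Lib.RG.Fibres.isDomain_of_geomIntegral hgi p.ResidueField
    set q := p.map (algebraMap Γ(S, W) Γ(X, f ⁻¹ᵁ W)) with hq
    haveI : q.IsPrime := H69.Shrink.isPrime_map_of_isDomain_fiber p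
    let qs : PrimeSpectrum Γ(X, f ⁻¹ᵁ W) := ⟨q, inferInstance⟩
    let x := hP.fromSpec qs
    have hfx' : ∀ Q : PrimeSpectrum Γ(X, f ⁻¹ᵁ W), f (hP.fromSpec Q) =
        hW.fromSpec (PrimeSpectrum.comap (algebraMap Γ(S, W) Γ(X, f ⁻¹ᵁ W)) Q) := fun Q =>
      (congrArg (fun φ : Spec Γ(X, f ⁻¹ᵁ W) ⟶ S => φ Q)
        (IsAffineOpen.SpecMap_appLE_fromSpec f hW hP le_rfl)).symm
    have hcomap : PrimeSpectrum.comap (algebraMap Γ(S, W) Γ(X, f ⁻¹ᵁ W)) qs =
        hW.primeIdealOf ⟨s, hsW⟩ := PrimeSpectrum.ext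
      (le_antisymm (fun a ha => by_contra fun hap => Main.not_mem_map hap ha) Ideal.le_comap_map)
    have hfx : f x = s := by
      rw [show f x = _ from hfx' qs, hcomap, hW.fromSpec_primeIdealOf]
    have hxP : x ∈ f ⁻¹ᵁ W := by
      show x ∈ ((f ⁻¹ᵁ W : X.Opens) : Set X)
      rw [← hP.range_fromSpec]
      exact ⟨qs, rfl⟩
    have hgen : closure ({f.asFiber x} : Set (f.fiber (f.base x))) = Set.univ := by
      refine Set.eq_univ_of_forall fun z => specializes_iff_mem_closure.1 ?_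
      rw [← (f.fiberι (f x)).isEmbedding.isInducing.specializes_iff, Scheme.Hom.fiberι_asFiber]
      have hz : f (f.fiberι (f x) z) = f x := by
        have := Set.mem_range_self (f := f.fiberι (f x)) z
        rwa [Scheme.Hom.range_fiberι] at this
      obtain ⟨Q, hQ⟩ : f.fiberι (f x) z ∈ Set.range hP.fromSpec := by
        rw [hP.range_fromSpec]
        show f (f.fiberι (f x) z) ∈ W
        rw [hz, hfx]
        exact hsW
      rw [← hQ]
      refine Specializes.map ((PrimeSpectrum.le_iff_specializes qs Q).1 ?_) hP.fromSpec.continuous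
      show q ≤ Q.asIdeal
      rw [← hQ, hfx' Q, hfx] at hz
      have hQp : PrimeSpectrum.comap (algebraMap Γ(S, W) Γ(X, f ⁻¹ᵁ W)) Q =
          hW.primeIdealOf ⟨s, hsW⟩ :=
        hW.fromSpec.isOpenEmbedding.injective (hz.trans (hW.fromSpec_primeIdealOf ⟨s, hsW⟩).symm)
      exact Ideal.map_le_iff_le_comap.2 (congrArg PrimeSpectrum.asIdeal hQp).ge
    have hflat := (H19.FlatLocus.Scheme.isFlatOverAt_iff f F hW hP le_rfl hxP).1
      (hflU x (show f x ∈ U from hfx ▸ hsU) hgen)
    have hprime : hP.primeIdealOf ⟨x, hxP⟩ = qs :=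
      hP.fromSpec.isOpenEmbedding.injective (hP.fromSpec_primeIdealOf _)
    have hflat' : _root_.FlatCA.FlatAt Γ(S, W) q Γ(F, f ⁻¹ᵁ W) := by
      have key : ∀ (y : PrimeSpectrum Γ(X, f ⁻¹ᵁ W)), y = qs →
          Module.Flat Γ(S, W) (LocalizedModule y.asIdeal.primeCompl Γ(F, f ⁻¹ᵁ W)) →
          _root_.FlatCA.FlatAt Γ(S, W) q Γ(F, f ⁻¹ᵁ W) := by
        rintro y rfl h; exact h
      exact key _ hprime hflat
    obtain ⟨g, hgp, r, hr⟩ := exists_free_nhd hgi g₀ Γ(F, f ⁻¹ᵁ W) (hfp g₀ hg₀U) p hg₀p hflat'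
    refine ⟨g * g₀, r, ?_, ?_, fun P _ _ hP' => hr P fun h => hP' (P.mul_mem_right g₀ h)⟩
    · rw [Scheme.basicOpen_mul]
      exact ⟨(Lib.Ideal.EffCartier.mem_basicOpen_iff_notMem_prime hW hsW g).2 hgp, hsg₀⟩
    · rw [Scheme.basicOpen_mul]
      exact inf_le_right.trans hg₀U
  choose g r hsg hgU hfree using hloc
  have hc : IsCompact ((W ⊓ U : S.Opens) : Set S) :=
    QuasiSeparatedSpace.inter_isCompact (W : Set S) (U : Set S) W.2 hW.isCompact U.2 hU
  obtain ⟨t, ht⟩ := hc.elim_finite_subcover (fun s : ↥(W ⊓ U) => (S.basicOpen (g s) : Set S))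
    (fun s => (S.basicOpen (g s)).2) fun s hs => Set.mem_iUnion.2 ⟨⟨s, hs⟩, hsg ⟨s, hs⟩⟩
  refine ⟨t.card, fun i => g (t.equivFin.symm i), fun i => r (t.equivFin.symm i), ?_,
    fun i => hfp _ (hgU _), fun i P _ _ => hfree _ P⟩
  refine le_antisymm (fun s hs => ?_) (Set.iUnion_subset fun i s hs =>
    ⟨S.basicOpen_le _ hs, hgU _ hs⟩)
  obtain ⟨a, hat, hsa⟩ := Set.mem_iUnion₂.1 (ht hs)
  exact Set.mem_iUnion.2 ⟨t.equivFin ⟨a, hat⟩, by simpa using hsa⟩

end Sheaf

end Groth.Agent.H25.BlowFree.Rank
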